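import Cfsg.Agent.H199.Cyc.LfPsl
import Cfsg.Agent.H350.Spec.PslOutC

/-!
# S3442: `exists_free` for `PSU_n(q)` (helper813, after helper360's `exists_free` for `PSL_n(q)`)
-/

set_option autoImplicit false

namespace Cfsg.Agent.H813.CV

open Cfsg Cfsg.Agent.H199.Cyc Cfsg.Agent.H403 Cfsg.Agent.H403.NumTop

universe v

variable {F : Type v} [Field F] [Fintype F] {n q : ℕ}

/-- **an element of prime order which is not joined to `r`** -/
theorem exists_freeU (hFq : Fintype.card F = q ^ 2) (hn : 4 ≤ n) (hex : 3 ≤ q ∨ n ≠ 4) {r : ℕ} (hr : r.Prime) :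
    ∃ x : PSU n F q, ¬ r ∣ orderOf x ∧ ∀ y : PSU n F q, orderOf y ≠ r * orderOf x := by
  have hF : Fintype.card F = q ^ (cond false 0 1 + 1) := by rw [hFq]; rfl
  have hL : Lin (AlgebraicClosure F) (PSU n F q) false n q F := lin_psu hFq (by omega)
  have h : IsL (PSU n F q) false n q F := ⟨MulEquiv.refl _⟩
  have hq : 2 ≤ q := LieClassical.HermBasic.two_le hFq
  obtain ⟨a, ha, -, hi⟩ := exists_prime (e := false) hq (i := n) (by omega) (by
    rintro (⟨h3, -⟩ | ⟨-, h3, h4⟩)
    · exact absurd h3 (by simp)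
    · omega)
  obtain ⟨b, hb, -, hi'⟩ := exists_prime (e := false) hq (i := n - 1) (by omega) (by
    rintro (⟨h3, -⟩ | ⟨-, h3, h4⟩)
    · exact absurd h3 (by simp)
    · omega)
  have helt : ∀ {s i : ℕ}, s.Prime → orderOf ((xv false q : ℤ) : ZMod s) = i → (i = n ∨ i = n - 1) →
      ∃ g : PSU n F q, orderOf g = s := by
    intro s i hs hsi hin
    exact h.exists_tor hF (by omega) hin hs.pos
      ((Nat.Prime.coprime_iff_not_dvd hs).2 (not_dvd_AA_one (by omega) hsi (by omega)))
      (by rw [dvd_AA_iff (by omega), ← hsi]; exact pow_orderOf_eq_one _)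
  have hab : a ≠ b := by
    rintro rfl
    omega
  have hnr : ¬ ∃ g : PSU n F q, orderOf g = a * b :=
    hL.not_adj hF (by omega) ha hb hi hi' (by omega) (by omega) (by omega)
    (lt_lcm (by omega) (by omega) (by omega) (by
      intro h
      have h5 : n - 1 ∣ n - (n - 1) := Nat.dvd_sub h dvd_rfl
      rw [show n - (n - 1) = 1 by omega] at h5
      have := Nat.le_of_dvd one_pos h5
      omega))
  have key : ∀ s i : ℕ, s.Prime → orderOf ((xv false q : ℤ) : ZMod s) = i → (i = n ∨ i = n - 1) → r ≠ s →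
      (¬ ∃ g : PSU n F q, orderOf g = r * s) →
      ∃ x : PSU n F q, ¬ r ∣ orderOf x ∧ ∀ y : PSU n F q, orderOf y ≠ r * orderOf x := by
    intro s i hs hsi hin hrs hno
    obtain ⟨x, hx⟩ := helt hs hsi hin
    refine ⟨x, ?_, fun y hy => hno ⟨y, by rw [hy, hx]⟩⟩
    rw [hx]
    exact fun h1 => hrs ((Nat.prime_dvd_prime_iff_eq hr hs).1 h1)
  by_cases hra : r = a
  · subst hra
    exact key b _ hb hi' (Or.inr rfl) hab hnr
  by_cases hrb : r = b
  · subst hrb
    exact key a _ ha hi (Or.inl rfl) hra (by rwa [mul_comm] at hnr)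
  by_cases hr2 : r = 2
  · subst hr2
    rcases exists_na false (n := n) (q := q) hn with hna | hna
    · exact key a _ ha hi (Or.inl rfl) hra (hL.not_two hF hn hna ha hi)
    · exact key b _ hb hi' (Or.inr rfl) hrb (hL.not_two hF hn hna hb hi')
  · by_cases hadj : ∃ g : PSU n F q, orderOf g = a * r
    · exact key b _ hb hi' (Or.inr rfl) hrb (by
        have h1 := not_both hL hF hn ha hb hr hr2 hi hi' hadj
        rwa [mul_comm] at h1)
    · exact key a _ ha hi (Or.inl rfl) hra (by rwa [mul_comm] at hadj)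

end Cfsg.Agent.H813.CV
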