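import Cfsg.Agent.H813.CV.HeisU
import Cfsg.Agent.LieClassical.HermGen

/-!
# S3442, X4': the element `c` (helper813)

`ι = Fin 2 ⊕ (ZMod b ⊕ Fin ρ)`, `c` is `α` on the first two coordinates, the `b`-cycle with an entry `α⁻²` on the block,
the identity on the remaining coordinates.
-/

set_option autoImplicit false
set_option linter.unusedSectionVars false

namespace Cfsg.Agent.H813.CV

open Cfsg Cfsg.Agent.LieClassical.HermBasic Cfsg.Agent.LieClassical.HermSiegel Cfsg.Agent.LieClassical.SUBasic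

universe v

/-- the index type -/
abbrev Ix (b ρ : ℕ) : Type := Fin 2 ⊕ (ZMod b ⊕ Fin ρ)

/-- the permutation -/
def sig (b ρ : ℕ) : Equiv.Perm (Ix b ρ) :=
  Equiv.sumCongr (Equiv.refl _) (Equiv.sumCongr (Equiv.addRight 1) (Equiv.refl _))

theorem sig_inl (b ρ : ℕ) (i : Fin 2) : sig b ρ (Sum.inl i) = Sum.inl i := rfl
theorem sig_blk (b ρ : ℕ) (x : ZMod b) : sig b ρ (Sum.inr (Sum.inl x)) = Sum.inr (Sum.inl (x + 1)) := rfl
theorem sig_rest (b ρ : ℕ) (i : Fin ρ) : sig b ρ (Sum.inr (Sum.inr i)) = Sum.inr (Sum.inr i) := rfl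

theorem sig_pow_blk (b ρ k : ℕ) (x : ZMod b) : (sig b ρ ^ k) (Sum.inr (Sum.inl x)) = Sum.inr (Sum.inl (x + k)) := by
  induction k with
  | zero => simp
  | succ k ih =>
    rw [pow_succ', Equiv.Perm.mul_apply, ih, sig_blk, Nat.cast_succ, add_assoc]

theorem sig_pow_inl (b ρ k : ℕ) (i : Fin 2) : (sig b ρ ^ k) (Sum.inl i) = Sum.inl i := by
  induction k with
  | zero => simp
  | succ k ih => rw [pow_succ', Equiv.Perm.mul_apply, ih, sig_inl]

theorem sig_pow_rest (b ρ k : ℕ) (i : Fin ρ) : (sig b ρ ^ k) (Sum.inr (Sum.inr i)) = Sum.inr (Sum.inr i) := by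
  induction k with
  | zero => simp
  | succ k ih => rw [pow_succ', Equiv.Perm.mul_apply, ih, sig_rest]

theorem sign_sig {b : ℕ} (hb : Odd b) (ρ : ℕ) [NeZero b] : Equiv.Perm.sign (sig b ρ) = 1 := by
  have h1 : sig b ρ ^ b = 1 := by
    ext x
    rcases x with i | x | i
    · rw [sig_pow_inl]; rfl
    · rw [sig_pow_blk, ZMod.natCast_self, add_zero]; rfl
    · rw [sig_pow_rest]; rfl
  have h2 : (Equiv.Perm.sign (sig b ρ)) ^ b = 1 := by rw [← map_pow, h1, map_one]
  rcases Int.units_eq_one_or (Equiv.Perm.sign (sig b ρ)) with h | h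
  · exact h
  · rw [h, hb.neg_one_pow] at h2
    exact absurd h2 (by decide)

section

variable {F : Type v} [Field F] {b ρ : ℕ}

/-- the diagonal entries -/
def dg (b ρ : ℕ) (α : F) : Ix b ρ → F
  | Sum.inl _ => α
  | Sum.inr (Sum.inl x) => if x = 0 then (α ^ 2)⁻¹ else 1
  | Sum.inr (Sum.inr _) => 1

theorem prod_dg [NeZero b] {α : F} (hα : α ≠ 0) : ∏ x, dg b ρ α x = 1 := by
  rw [Fintype.prod_sum_type, Fintype.prod_sum_type]
  simp only [dg]
  rw [Finset.prod_const, Finset.prod_ite_eq' Finset.univ (0 : ZMod b) (fun _ => (α ^ 2)⁻¹)]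
  simp [hα]

theorem dg_norm {α : F} {q : ℕ} (hα : α ^ (q + 1) = 1) (x : Ix b ρ) : dg b ρ α x ^ (q + 1) = 1 := by
  rcases x with i | x | i
  · exact hα
  · simp only [dg]
    split_ifs
    · rw [inv_pow, ← pow_mul, mul_comm, pow_mul, hα, one_pow, inv_one]
    · exact one_pow _
  · exact one_pow _

end

section

variable {F : Type v} [Field F] [Fintype F] {n q b ρ : ℕ} [NeZero b] (e : Ix b ρ ≃ Fin n) {α : F}

/-- the element `c` -/
noncomputable def cE (hb : Odd b) (hα : α ^ (q + 1) = 1) : SU n F q :=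
  suPerm q (e.permCongr (sig b ρ)) (by rw [Equiv.Perm.sign_permCongr, sign_sig hb]) *
    suDiag q (fun i => dg b ρ α (e.symm i)) (by
      rw [← prod_dg (b := b) (ρ := ρ) (α := α) (by
        rintro rfl
        rw [zero_pow (by omega)] at hα
        exact zero_ne_one hα)]
      exact (Equiv.prod_comp e.symm (dg b ρ α))) (fun i => dg_norm hα _)

variable (hb : Odd b) (hα : α ^ (q + 1) = 1)

theorem act_cE (v : Fin n → F) (x : Ix b ρ) :
    act (cE e hb hα) v (e x) = dg b ρ α (sig b ρ x) * v (e (sig b ρ x)) := by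
  rw [cE, act_mul]
  have h1 : ∀ w : Fin n → F, act (suPerm q (e.permCongr (sig b ρ)) (by rw [Equiv.Perm.sign_permCongr, sign_sig hb]) : SU n F q) w =
      w ∘ (e.permCongr (sig b ρ)) := by
    intro w
    rw [act_def, mat_def, coe_suPerm, Matrix.permMatrix_mulVec]
  rw [h1]
  simp only [Function.comp_apply, Equiv.permCongr_apply, Equiv.symm_apply_apply]
  rw [act_def, mat_def, coe_suDiag, Matrix.mulVec_diagonal, Equiv.symm_apply_apply]

theorem act_inl (v : Fin n → F) (i : Fin 2) (k : ℕ) :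
    act (cE e hb hα ^ k) v (e (Sum.inl i)) = α ^ k * v (e (Sum.inl i)) := by
  induction k generalizing v with
  | zero => rw [pow_zero, act_one, pow_zero, one_mul]
  | succ k ih =>
    rw [pow_succ, act_mul, ih, act_cE, sig_inl, pow_succ, mul_assoc]
    rfl

theorem act_rest (v : Fin n → F) (i : Fin ρ) (k : ℕ) :
    act (cE e hb hα ^ k) v (e (Sum.inr (Sum.inr i))) = v (e (Sum.inr (Sum.inr i))) := by
  induction k generalizing v with
  | zero => rw [pow_zero, act_one]
  | succ k ih =>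
    rw [pow_succ, act_mul, ih, act_cE, sig_rest]
    change 1 * _ = _
    rw [one_mul]

theorem act_blk (v : Fin n → F) (x : ZMod b) (k : ℕ) :
    act (cE e hb hα ^ k) v (e (Sum.inr (Sum.inl x))) =
      (∏ t ∈ Finset.range k, (if x + 1 + t = 0 then (α ^ 2)⁻¹ else 1)) * v (e (Sum.inr (Sum.inl (x + k)))) := by
  induction k generalizing v with
  | zero => rw [pow_zero, act_one, Finset.prod_range_zero, one_mul, Nat.cast_zero, add_zero]
  | succ k ih =>
    rw [pow_succ, act_mul, ih, act_cE, sig_blk, Finset.prod_range_succ, mul_assoc]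
    congr 1
    rw [Nat.cast_succ, add_assoc x, add_comm (k : ZMod b) 1, ← add_assoc]
    rw [show x + 1 + (k : ZMod b) = x + (k : ZMod b) + 1 by ring]
    rfl

/-- `c ^ b` is the scalar `α⁻²` on the block -/
theorem act_blk_b (v : Fin n → F) (x : ZMod b) :
    act (cE e hb hα ^ b) v (e (Sum.inr (Sum.inl x))) = (α ^ 2)⁻¹ * v (e (Sum.inr (Sum.inl x))) := by
  rw [act_blk, ZMod.natCast_self, add_zero]
  congr 1
  have hz : ∀ t : ℕ, t < b → (x + 1 + t = 0 ↔ t = (-x - 1 : ZMod b).val) := by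
    intro t ht
    constructor
    · intro h
      have h1 : (t : ZMod b) = -x - 1 := by linear_combination h
      rw [← h1, ZMod.val_cast_of_lt ht]
    · intro h
      have h1 : (t : ZMod b) = -x - 1 := by rw [h, ZMod.natCast_zmod_val]
      rw [h1]; ring
  rw [Finset.prod_eq_single (-x - 1 : ZMod b).val]
  · rw [if_pos ((hz _ (ZMod.val_lt _)).2 rfl)]
  · intro t ht hne
    rw [if_neg]
    rw [hz t (Finset.mem_range.1 ht)]
    exact hne
  · intro h
    exact absurd (Finset.mem_range.2 (ZMod.val_lt _)) h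

theorem act_blk_bk (v : Fin n → F) (x : ZMod b) (k : ℕ) :
    act (cE e hb hα ^ (b * k)) v (e (Sum.inr (Sum.inl x))) = ((α ^ 2)⁻¹) ^ k * v (e (Sum.inr (Sum.inl x))) := by
  induction k generalizing v with
  | zero => rw [mul_zero, pow_zero, act_one, pow_zero, one_mul]
  | succ k ih =>
    rw [Nat.mul_succ, pow_add, act_mul, ih, act_blk_b, pow_succ (α ^ 2)⁻¹ k, mul_assoc]

/-- the block -/
def SB : Submodule F (Fin n → F) where
  carrier := {v | (∀ i, v (e (Sum.inl i)) = 0) ∧ ∀ i, v (e (Sum.inr (Sum.inr i))) = 0}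
  add_mem' := by
    rintro v w ⟨h1, h2⟩ ⟨h3, h4⟩
    exact ⟨fun i => by rw [Pi.add_apply, h1, h3, add_zero], fun i => by rw [Pi.add_apply, h2, h4, add_zero]⟩
  zero_mem' := ⟨fun _ => rfl, fun _ => rfl⟩
  smul_mem' := by
    rintro c v ⟨h1, h2⟩
    exact ⟨fun i => by rw [Pi.smul_apply, h1, smul_zero], fun i => by rw [Pi.smul_apply, h2, smul_zero]⟩

theorem mem_SB {v : Fin n → F} : v ∈ SB (F := F) e ↔ (∀ i, v (e (Sum.inl i)) = 0) ∧ ∀ i, v (e (Sum.inr (Sum.inr i))) = 0 :=
  Iff.rfl

/-- the block and the rest -/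
def SR : Submodule F (Fin n → F) where
  carrier := {v | ∀ i, v (e (Sum.inl i)) = 0}
  add_mem' := by
    intro v w h1 h3 i
    rw [Pi.add_apply, h1, h3, add_zero]
  zero_mem' := fun _ => rfl
  smul_mem' := by
    intro c v h1 i
    rw [Pi.smul_apply, h1, smul_zero]

theorem mem_SR {v : Fin n → F} : v ∈ SR (F := F) e ↔ ∀ i, v (e (Sum.inl i)) = 0 := Iff.rfl

theorem ext_e {v w : Fin n → F} (h : ∀ x, v (e x) = w (e x)) : v = w := by
  funext i
  obtain ⟨x, rfl⟩ := e.surjective i
  exact h x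

theorem act_mem_SB {v : Fin n → F} (hv : v ∈ SB (F := F) e) : act (cE e hb hα) v ∈ SB (F := F) e := by
  rw [mem_SB] at hv ⊢
  refine ⟨fun i => ?_, fun i => ?_⟩
  · have := act_inl e hb hα v i 1
    rw [pow_one] at this
    rw [this, hv.1, mul_zero]
  · have := act_rest e hb hα v i 1
    rw [pow_one] at this
    rw [this, hv.2]

theorem act_mem_SR {v : Fin n → F} (hv : v ∈ SR (F := F) e) : act (cE e hb hα) v ∈ SR (F := F) e := by
  rw [mem_SR] at hv ⊢
  intro i
  have := act_inl e hb hα v i 1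
  rw [pow_one] at this
  rw [this, hv, mul_zero]

theorem SB_le_SR : SB (F := F) e ≤ SR (F := F) e := fun _ hv => hv.1

theorem card_SB : Nat.card (SB (F := F) e) = Fintype.card F ^ b := by
  have h : Nat.card (ZMod b → F) = Fintype.card F ^ b := by
    rw [Nat.card_fun, Nat.card_zmod, Nat.card_eq_fintype_card]
  rw [← h]
  apply Nat.card_congr
  refine ⟨fun v x => v.1 (e (Sum.inr (Sum.inl x))), fun f => ⟨fun i => match e.symm i with
      | Sum.inl _ => 0
      | Sum.inr (Sum.inl x) => f x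
      | Sum.inr (Sum.inr _) => 0, ?_, ?_⟩, ?_, ?_⟩
  · intro i; simp
  · intro i; simp
  · rintro ⟨v, hv⟩
    apply Subtype.ext
    apply ext_e e
    rintro (i | x | i)
    · simpa using (hv.1 i).symm
    · simp
    · simpa using (hv.2 i).symm
  · intro f
    funext x
    simp

variable (hF : Fintype.card F = q ^ 2)

include hF in
/-- the isotropic vector -/
theorem exists_u : ∃ u : Fin n → F, HS q (SR (F := F) e) u ∧ HS q (SB (F := F) e) u ∧ act (cE e hb hα) u = α • u := by
  obtain ⟨p, p', a, c, ha, hp, -, hpp, -, -⟩ := LieClassical.HermGen.exists_hyp_pair hF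
    (i := e (Sum.inl 0)) (j := e (Sum.inl 1)) (by
      intro h
      have := e.injective h
      simp at this)
  have hpr : ∀ y : ZMod b ⊕ Fin ρ, p (e (Sum.inr y)) = 0 := by
    intro y
    rw [hp]
    simp
  have hp0 : p ≠ 0 := by
    intro h
    have h1 := congrFun h (e (Sum.inl 0))
    rw [hp] at h1
    simp at h1
  have horth : ∀ w ∈ SR (F := F) e, hermForm n F q w p = 0 := by
    intro w hw
    rw [herm_def, ← e.sum_comp]
    apply Finset.sum_eq_zero
    rintro (i | y) _
    · rw [hw i, zero_mul]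
    · rw [hpr, zero_pow_q hF, mul_zero]
  have hsingle : ∀ (w : Fin n → F) (x : Ix b ρ), hermForm n F q w (Pi.single (e x) 1) = w (e x) := by
    intro w x
    rw [herm_single_right hF, one_pow, mul_one]
  refine ⟨p, ⟨hpp, hp0, horth, ?_⟩, ⟨hpp, hp0, fun w hw => horth w (SB_le_SR e hw), ?_⟩, ?_⟩
  · intro w hw h
    apply ext_e e
    rintro (i | y)
    · exact hw i
    · rw [← hsingle w]
      apply h
      intro i
      simp
  · intro w hw h
    apply ext_e e
    rintro (i | x | i)
    · exact hw.1 i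
    · rw [← hsingle w]
      apply h
      constructor
      · intro i; simp
      · intro i; simp
    · exact hw.2 i
  · apply ext_e e
    rintro (i | x | i)
    · have := act_inl e hb hα p i 1
      rw [pow_one, pow_one] at this
      rw [this]; rfl
    · rw [act_cE, sig_blk, hpr, mul_zero, Pi.smul_apply, hpr, smul_zero]
    · rw [act_cE, sig_rest, hpr, mul_zero, Pi.smul_apply, hpr, smul_zero]

end

end Cfsg.Agent.H813.CV
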