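import Cfsg.Agent.LieClassical.HermSiegel
import Cfsg.Agent.H950.Quad

/-!
# S3442, M9, step 5: directions of `⟨x v, v⟩` for isotropic `v` (helper813)

* `exists_dir` : for `n ≥ 3`, `d ≠ 0` there is an isotropic `v ≠ 0` with `⟨x v, v⟩ ∈ F_q d`;
* `exists_dir_ne` : `n = 3`, `x ∈ SU_3(q)` without eigenvector: moreover `⟨x v, v⟩ ≠ 0`;
* `trace_siegel` : `tr (x * siegel u 0 μ) = tr x + μ ⟨x u, u⟩`;
* `line` : for `d ≠ 0` an isotropic `u` and `c ≠ 0` such that `tr (x * siegel u 0 (t c)) = tr x + t d` for all `t ∈ F_q`.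
-/

set_option autoImplicit false
set_option linter.unusedSectionVars false

namespace Cfsg.Agent.H813.CV

open Cfsg Cfsg.Agent.LieClassical.HermBasic Cfsg.Agent.LieClassical.HermSiegel Module

universe v

variable {F : Type v} [Field F] [Fintype F] {n q : ℕ}

/-- the subfield with `q` elements -/
def fixQ (hF : Fintype.card F = q ^ 2) : Subfield F where
  carrier := {x | x ^ q = x}
  mul_mem' := by
    intro a b ha hb
    rw [Set.mem_ofPred_eq] at *
    rw [mul_pow, ha, hb]
  one_mem' := one_pow q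
  add_mem' := by
    intro a b ha hb
    rw [Set.mem_ofPred_eq] at *
    rw [add_pow_q hF, ha, hb]
  zero_mem' := zero_pow_q hF
  neg_mem' := by
    intro a ha
    rw [Set.mem_ofPred_eq] at *
    rw [neg_pow_q hF, ha]
  inv_mem' := by
    intro a ha
    rw [Set.mem_ofPred_eq] at *
    rw [inv_pow, ha]

theorem mem_fixQ (hF : Fintype.card F = q ^ 2) {x : F} : x ∈ fixQ hF ↔ x ^ q = x := Iff.rfl

theorem two_le_finrank (hF : Fintype.card F = q ^ 2) : 2 ≤ finrank (fixQ hF) F := by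
  by_contra h
  have h1 : finrank (fixQ hF) F = 1 := by
    have := finrank_pos (R := fixQ hF) (M := F)
    omega
  obtain ⟨x, hx⟩ := exists_not_fixed hF
  obtain ⟨c, hc⟩ := (finrank_eq_one_iff_of_nonzero' (1 : F) one_ne_zero).1 h1 x
  apply hx
  rw [← hc, Subfield.smul_def, smul_eq_mul, mul_one]
  exact c.2

/-- the functional `z ↦ (z - z ^ q) / δ` -/
noncomputable def skw (hF : Fintype.card F = q ^ 2) {δ : F} (hδ : δ + δ ^ q = 0) : F →ₗ[fixQ hF] fixQ hF where
  toFun z := ⟨(z - z ^ q) * δ⁻¹, by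
    rw [mem_fixQ, mul_pow, sub_pow_q hF, pow_q_pow_q hF, inv_pow, eq_neg_of_add_eq_zero_right hδ, inv_neg]
    ring⟩
  map_add' a b := by
    apply Subtype.ext
    change (a + b - (a + b) ^ q) * δ⁻¹ = (a - a ^ q) * δ⁻¹ + (b - b ^ q) * δ⁻¹
    rw [add_pow_q hF]
    ring
  map_smul' c a := by
    apply Subtype.ext
    change ((c : F) * a - ((c : F) * a) ^ q) * δ⁻¹ = (c : F) * ((a - a ^ q) * δ⁻¹)
    rw [mul_pow, (mem_fixQ hF).1 c.2]
    ring

theorem skw_eq_zero (hF : Fintype.card F = q ^ 2) {δ : F} (hδ : δ + δ ^ q = 0) (h0 : δ ≠ 0) {z : F}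
    (h : skw hF hδ z = 0) : z ^ q = z := by
  have h1 : (z - z ^ q) * δ⁻¹ = 0 := congrArg Subtype.val h
  rcases mul_eq_zero.1 h1 with h2 | h2
  · exact (sub_eq_zero.1 h2).symm
  · exact absurd h2 (inv_ne_zero h0)

/-- the `F_q`-bilinear form `(v, w) ↦ skw (A * ⟨g v, w⟩)` -/
noncomputable def bil (hF : Fintype.card F = q ^ 2) {δ : F} (hδ : δ + δ ^ q = 0)
    (g : (Fin n → F) →ₗ[F] (Fin n → F)) (A : F) :
    (Fin n → F) →ₗ[fixQ hF] (Fin n → F) →ₗ[fixQ hF] fixQ hF :=
  LinearMap.mk₂ (fixQ hF) (fun v w => skw hF hδ (A * hermForm n F q (g v) w))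
    (fun v v' w => by rw [map_add, herm_add_left, mul_add, map_add])
    (fun c v w => by
      rw [Subfield.smul_def, map_smul, herm_smul_left, mul_left_comm]
      exact (skw hF hδ).map_smul c _)
    (fun v w w' => by rw [herm_add_right hF, mul_add, map_add])
    (fun c v w => by
      rw [Subfield.smul_def, herm_smul_right, (mem_fixQ hF).1 c.2, mul_left_comm]
      exact (skw hF hδ).map_smul c _)

/-- two Hermitian conditions have a common nonzero solution in dimension three -/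
theorem exists_dir' (hF : Fintype.card F = q ^ 2) (hn : 3 ≤ n) (g : (Fin n → F) →ₗ[F] (Fin n → F)) {d : F} (hd : d ≠ 0) :
    ∃ v : Fin n → F, v ≠ 0 ∧ hermForm n F q v v = 0 ∧ ∃ c : F, c ^ q = c ∧ hermForm n F q (g v) v = c * d := by
  obtain ⟨δ, h0, hδ⟩ := exists_trace_zero_ne hF
  obtain ⟨ε, hε⟩ := exists_not_fixed hF
  obtain ⟨v, hv, h⟩ := H950.exists_common_isotropic (K := fixQ hF) (A := Fin n → F) (ι := Fin 2)
    ![bil hF hδ LinearMap.id ε, bil hF hδ g d⁻¹] (by
      rw [Fintype.card_fin]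
      have h1 : finrank (fixQ hF) (Fin n → F) = n * finrank (fixQ hF) F := by
        rw [finrank_pi_fintype, Finset.sum_const, Finset.card_univ, Fintype.card_fin, smul_eq_mul]
      rw [h1]
      have := Nat.mul_le_mul hn (two_le_finrank hF)
      omega)
  have h1 : skw hF hδ (ε * hermForm n F q v v) = 0 := h 0
  have h2 : skw hF hδ (d⁻¹ * hermForm n F q (g v) v) = 0 := h 1
  refine ⟨v, hv, ?_, d⁻¹ * hermForm n F q (g v) v, skw_eq_zero hF hδ h0 h2, ?_⟩
  · by_contra hne
    apply hε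
    have h3 := skw_eq_zero hF hδ h0 h1
    rw [mul_pow, herm_self_pow hF] at h3
    exact mul_right_cancel₀ hne h3
  · rw [mul_comm, ← mul_assoc, mul_inv_cancel₀ hd, one_mul]

theorem exists_dir (hF : Fintype.card F = q ^ 2) (hn : 3 ≤ n) (x : SU n F q) {d : F} (hd : d ≠ 0) :
    ∃ v : Fin n → F, v ≠ 0 ∧ hermForm n F q v v = 0 ∧ ∃ c : F, c ^ q = c ∧ hermForm n F q (act x v) v = c * d :=
  exists_dir' hF hn (Matrix.mulVecLin (mat x)) hd

/-- in dimension three orthogonal isotropic vectors are proportional -/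
theorem prop_of_orth (hF : Fintype.card F = q ^ 2) {v y : Fin 3 → F} (hv : v ≠ 0) (hvv : hermForm 3 F q v v = 0)
    (hyv : hermForm 3 F q y v = 0) (hyy : hermForm 3 F q y y = 0) : ∃ c : F, y = c • v := by
  obtain ⟨w, hw⟩ : ∃ w, hermForm 3 F q w v ≠ 0 := by
    obtain ⟨w, hw⟩ := exists_herm_ne_zero hF hv
    exact ⟨w, fun h => hw (herm_eq_zero_swap hF h)⟩
  set c : F := (hermForm 3 F q w y * (hermForm 3 F q w v)⁻¹) ^ q with hc
  have hcq : c ^ q = hermForm 3 F q w y * (hermForm 3 F q w v)⁻¹ := by rw [hc, pow_q_pow_q hF]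
  set y1 := y - c • v with hy1
  by_contra hne
  have hwy1 : hermForm 3 F q w y1 = 0 := by
    rw [hy1, herm_sub_right hF, herm_smul_right, hcq, mul_assoc, inv_mul_cancel₀ hw, mul_one, sub_self]
  have hy1v : hermForm 3 F q y1 v = 0 := by
    rw [hy1, herm_sub_left, herm_smul_left, hyv, hvv]
    ring
  have hy1y : hermForm 3 F q y1 y = 0 := by
    rw [hy1, herm_sub_left, herm_smul_left, hyy, herm_eq_zero_swap hF hyv]
    ring
  have hy1y1 : hermForm 3 F q y1 y1 = 0 := by
    nth_rewrite 2 [hy1]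
    rw [herm_sub_right hF, herm_smul_right, hy1y, hy1v]
    ring
  have hne1 : ∀ c' : F, y1 ≠ c' • v := fun c' h => hne ⟨c' + c, by
    rw [add_smul, ← h, hy1, sub_add_cancel]⟩
  have hli : LinearIndependent F ![v, w, y1] := by
    rw [Fintype.linearIndependent_iff]
    intro g hg
    rw [Fin.sum_univ_three] at hg
    change g 0 • v + g 1 • w + g 2 • y1 = 0 at hg
    have h1 : g 1 = 0 := by
      have h2 := congrArg (fun z => hermForm 3 F q z v) hg
      simp only [herm_add_left, herm_smul_left, herm_zero_left, hvv, hy1v, mul_zero, zero_add, add_zero] at h2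
      exact (mul_eq_zero.1 h2).resolve_right hw
    rw [h1, zero_smul, add_zero] at hg
    have h2 : g 2 = 0 := by
      by_contra h2
      apply hne1 (-(g 2)⁻¹ * g 0)
      rw [mul_smul, ← sub_eq_zero, neg_smul, sub_neg_eq_add]
      have h3 : g 2 • y1 = -(g 0 • v) := eq_neg_of_add_eq_zero_right hg
      have h4 : y1 = (g 2)⁻¹ • (g 2 • y1) := by rw [smul_smul, inv_mul_cancel₀ h2, one_smul]
      rw [h4, h3, smul_neg, neg_add_cancel]
    rw [h2, zero_smul, add_zero] at hg
    have h0 : g 0 = 0 := (smul_eq_zero.1 hg).resolve_right hv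
    intro i
    fin_cases i
    · exact h0
    · exact h1
    · exact h2
  have htop := hli.span_eq_top_of_card_eq_finrank (by rw [Fintype.card_fin, finrank_pi, Fintype.card_fin])
  apply hne1 0
  rw [zero_smul]
  apply herm_nondeg hF
  intro z
  have hz : z ∈ Submodule.span F (Set.range ![v, w, y1]) := htop ▸ Submodule.mem_top
  induction hz using Submodule.span_induction with
  | mem z hz =>
    obtain ⟨i, rfl⟩ := hz
    fin_cases i
    · exact hy1v
    · exact herm_eq_zero_swap hF hwy1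
    · exact hy1y1
  | zero => exact herm_zero_right hF _
  | add a b _ _ ha hb => rw [herm_add_right hF, ha, hb, add_zero]
  | smul a b _ hb => rw [herm_smul_right, hb, mul_zero]

/-- **Step 5**, the direction is nonzero -/
theorem exists_dir_ne (hF : Fintype.card F = q ^ 2) (x : SU 3 F q) (hx : ∀ (v : Fin 3 → F) (c : F), act x v = c • v → v = 0)
    {d : F} (hd : d ≠ 0) :
    ∃ v : Fin 3 → F, v ≠ 0 ∧ hermForm 3 F q v v = 0 ∧ ∃ c : F, c ≠ 0 ∧ c ^ q = c ∧ hermForm 3 F q (act x v) v = c * d := by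
  obtain ⟨v, hv, hvv, c, hc, h⟩ := exists_dir hF le_rfl x hd
  refine ⟨v, hv, hvv, c, ?_, hc, h⟩
  rintro rfl
  rw [zero_mul] at h
  obtain ⟨c', hc'⟩ := prop_of_orth hF hv hvv h (by rw [herm_act, hvv])
  exact hv (hx v c' hc')

theorem isSiegel_zero_dir {u : Fin n → F} {μ : F} (hu : hermForm n F q u u = 0)
    (hμ : μ + μ ^ q = 0) : IsSiegel q u 0 μ :=
  ⟨hu, herm_zero_left u, by rw [herm_zero_left, add_zero, hμ]⟩

/-- the trace of `x * siegel u 0 μ` -/
theorem trace_siegel (hF : Fintype.card F = q ^ 2) (x : SU n F q) {u : Fin n → F} {μ : F} (h : IsSiegel q u 0 μ) :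
    (mat (x * siegel hF u 0 μ h)).trace = (mat x).trace + μ * hermForm n F q (act x u) u := by
  have h1 : mat (siegel hF u 0 μ h) = 1 + Matrix.vecMulVec u (fun j => μ * u j ^ q) := by
    have h2 : mat (siegel hF u 0 μ h) = siegelMat q u 0 μ := rfl
    rw [h2, siegelMat, Matrix.zero_vecMulVec, zero_add]
    congr 2
    funext j
    rw [Pi.zero_apply, zero_pow_q hF, sub_zero]
  rw [mat_mul, h1, mul_add, mul_one, Matrix.trace_add, Matrix.mul_vecMulVec, Matrix.trace_vecMulVec, herm_def,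
    Finset.mul_sum, act_def]
  congr 1
  rw [dotProduct]
  exact Finset.sum_congr rfl fun i _ => by ring

/-- **Step 5**: the traces of the coset `x X_u` are the line through `tr x` of direction `d` -/
theorem line (hF : Fintype.card F = q ^ 2) (x : SU 3 F q) (hx : ∀ (v : Fin 3 → F) (c : F), act x v = c • v → v = 0)
    {d : F} (hd : d ≠ 0) :
    ∃ (u : Fin 3 → F) (c : F), u ≠ 0 ∧ c ≠ 0 ∧ hermForm 3 F q u u = 0 ∧
      (∀ t : F, t ^ q = t ↔ (t * c) + (t * c) ^ q = 0) ∧
      ∀ (t : F) (h : IsSiegel q u 0 (t * c)), (mat (x * siegel hF u 0 (t * c) h)).trace = (mat x).trace + t * d := by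
  obtain ⟨δ, h0, hδ⟩ := exists_trace_zero_ne hF
  have hδ' : δ ^ q = -δ := eq_neg_of_add_eq_zero_right hδ
  obtain ⟨u, hu, huu, c, hc0, hc, h⟩ := exists_dir_ne hF x hx (d := d * δ⁻¹) (mul_ne_zero hd (inv_ne_zero h0))
  refine ⟨u, δ * c⁻¹, hu, mul_ne_zero h0 (inv_ne_zero hc0), huu, fun t => ?_, fun t ht => ?_⟩
  · have h1 : t * (δ * c⁻¹) + (t * (δ * c⁻¹)) ^ q = (t - t ^ q) * (δ * c⁻¹) := by
      rw [mul_pow, mul_pow, inv_pow, hc, hδ']
      ring
    rw [h1, mul_eq_zero, sub_eq_zero]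
    constructor
    · intro h
      exact Or.inl h.symm
    · rintro (h | h)
      · exact h.symm
      · exact absurd h (mul_ne_zero h0 (inv_ne_zero hc0))
  · rw [trace_siegel, h]
    congr 1
    field_simp

end Cfsg.Agent.H813.CV
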