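import Cfsg.Agent.H381.CV.UOrb

/-!
# S3442, X4': the `3`-exponent of `PSU_n(q)`, `3 ∣ q + 1`, `3 ∤ n` (helper813)
-/

set_option autoImplicit false

namespace Cfsg.Agent.H813.CV

open Matrix Cfsg Cfsg.Agent.H364.Unitary Cfsg.Agent.H364.Regular Cfsg.Agent.H381.CV

variable {F : Type*} [Field F] [Fintype F] {n q : ℕ}

/-- `3 ^ k ∣ (-q) ^ i - 1`, `i < 3 ^ (j + 1)` : `k ≤ a + j` -/
theorem le_of_dvd {q i j a k : ℕ} (h3 : 3 ∣ q + 1) (ha : ¬ 3 ^ (a + 1) ∣ q + 1) (hi : 1 ≤ i) (hij : i < 3 ^ (j + 1))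
    (h : ((3 ^ k : ℕ) : ℤ) ∣ (-(q : ℤ)) ^ i - 1) : k ≤ a + j := by
  have h3' : ((3 : ℕ) : ℤ) ∣ -(q : ℤ) - 1 := by
    have h1 : ((3 : ℕ) : ℤ) ∣ ((q + 1 : ℕ) : ℤ) := Int.natCast_dvd_natCast.2 h3
    rw [show -(q : ℤ) - 1 = -((q + 1 : ℕ) : ℤ) by push_cast; ring]
    exact (dvd_neg (α := ℤ)).2 h1
  have hx : ¬ ((3 : ℕ) : ℤ) ∣ -(q : ℤ) := by
    intro h1
    have h2 := dvd_sub h1 h3'
    rw [show -(q : ℤ) - (-(q : ℤ) - 1) = 1 by ring] at h2
    norm_num at h2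
  have h1 := Int.emultiplicity_pow_sub_pow Nat.prime_three (by decide : Odd 3) h3' hx i
  rw [one_pow] at h1
  have h2 : (k : ℕ∞) ≤ emultiplicity ((3 : ℕ) : ℤ) ((-(q : ℤ)) ^ i - 1) := by
    rw [← pow_dvd_iff_le_emultiplicity]
    push_cast at h ⊢
    exact h
  have h4 : emultiplicity ((3 : ℕ) : ℤ) (-(q : ℤ) - 1) ≤ (a : ℕ∞) := by
    rw [← not_lt]
    intro h5
    apply ha
    have h6 : ((a + 1 : ℕ) : ℕ∞) ≤ emultiplicity ((3 : ℕ) : ℤ) (-(q : ℤ) - 1) := by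
      push_cast
      exact Order.add_one_le_of_lt h5
    rw [← pow_dvd_iff_le_emultiplicity, show -(q : ℤ) - 1 = -((q + 1 : ℕ) : ℤ) by push_cast; ring, dvd_neg,
      ← Nat.cast_pow, Int.natCast_dvd_natCast] at h6
    exact h6
  have h5 : emultiplicity 3 i ≤ (j : ℕ∞) := by
    rw [← not_lt]
    intro h5
    have h6 : ((j + 1 : ℕ) : ℕ∞) ≤ emultiplicity 3 i := by
      push_cast
      exact Order.add_one_le_of_lt h5
    rw [← pow_dvd_iff_le_emultiplicity] at h6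
    have := Nat.le_of_dvd hi h6
    omega
  rw [h1] at h2
  have h6 : (k : ℕ∞) ≤ ((a + j : ℕ) : ℕ∞) := by
    push_cast
    exact h2.trans (add_le_add h4 h5)
  exact_mod_cast h6

/-- **The `3`-exponent.** -/
theorem no_order (hF : Fintype.card F = q ^ 2) (hn3 : 3 ≤ n) (h3 : 3 ∣ q + 1) (h3n : ¬ 3 ∣ n) {j a : ℕ}
    (hj : n < 3 ^ (j + 1)) (ha : ¬ 3 ^ (a + 1) ∣ q + 1) (y : PSU n F q) : orderOf y ≠ 3 ^ (a + j + 1) := by
  classical
  intro hy
  obtain ⟨g, rfl⟩ := QuotientGroup.mk_surjective y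
  -- the lift `g ^ n` has `3`-power order
  have h0 : orderOf ((QuotientGroup.mk (g ^ n) : PSU n F q)) = 3 ^ (a + j + 1) := by
    rw [QuotientGroup.mk_pow, orderOf_pow, hy]
    have : Nat.gcd (3 ^ (a + j + 1)) n = 1 := Nat.Coprime.pow_left _ ((Nat.Prime.coprime_iff_not_dvd Nat.prime_three).2 h3n)
    rw [this, Nat.div_one]
  set h := g ^ n with hh
  have h1 : h ^ 3 ^ (a + j + 1) = 1 := by
    have h2 : g ^ 3 ^ (a + j + 1) ∈ Subgroup.center (SU n F q) := by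
      rw [← QuotientGroup.eq_one_iff, QuotientGroup.mk_pow, ← hy, pow_orderOf_eq_one]
    obtain ⟨c, hcn, hcq, hc⟩ := (Cfsg.Agent.LieClassical.SUBasic.mem_center_SU_iff hF hn3 _).1 h2
    rw [hh, ← pow_mul, mul_comm, pow_mul, hc]
    apply mat_injective
    rw [mat_pow, mat_one]
    change (Matrix.diagonal fun _ => c) ^ n = 1
    rw [Matrix.diagonal_pow]
    have : (fun _ : Fin n => c) ^ n = 1 := by funext i; exact hcn
    rw [this]
    exact Matrix.diagonal_one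
  have h3F : ((3 : ℕ) : F) ≠ 0 := by
    intro h3F
    obtain ⟨m, hm⟩ := h3
    have h4 : ((q + 1 : ℕ) : F) = 0 := by rw [hm, Nat.cast_mul, h3F, zero_mul]
    push_cast at h4
    rw [q_cast_zero hF, zero_add] at h4
    exact one_ne_zero h4
  have h2 : h ^ 3 ^ (a + j) ≠ 1 := by
    intro h2
    have h5 : (QuotientGroup.mk h : PSU n F q) ^ 3 ^ (a + j) = 1 := by
      rw [← QuotientGroup.mk_pow, h2]; rfl
    have h6 := orderOf_dvd_of_pow_eq_one h5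
    rw [h0] at h6
    have := Nat.le_of_dvd (by positivity) h6
    rw [pow_succ] at this
    have h7 : 0 < 3 ^ (a + j) := by positivity
    omega
  obtain ⟨x, hx, hx1⟩ := exists_Ev (K := AlgebraicClosure F) h3F (s := 3 ^ (a + j)) (g := h) (by
    rw [← pow_mul, ← pow_succ]; exact h1) h2
  apply hx1
  have hx0 := ne_zero_Ev hF hx
  obtain ⟨i, hi1, hi2, hi3⟩ := exists_period (tau_injective (K := AlgebraicClosure F) hF) (S := Ev _ h)
    (fun x hx => next_Ev hF hx) hx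
  rw [tau_iter_eq hx0] at hi3
  have hxk := pow_Ev h1 hx
  -- the order of `x`
  obtain ⟨k, -, hk⟩ := (Nat.dvd_prime_pow Nat.prime_three).1 (orderOf_dvd_of_pow_eq_one hxk)
  have h5 : ((3 ^ k : ℕ) : ℤ) ∣ (-(q : ℤ)) ^ i - 1 := by
    rw [← hk, Int.natCast_dvd]
    exact orderOf_dvd_of_pow_eq_one (zpow_natAbs_eq_one hi3)
  have h6 := le_of_dvd h3 ha hi1 (lt_of_le_of_lt (hi2.trans (card_Ev h)) hj) h5
  rw [← orderOf_dvd_iff_pow_eq_one, hk]
  exact pow_dvd_pow 3 h6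

end Cfsg.Agent.H813.CV
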