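import Cfsg.Agent.H377.CV.ToolC
import Cfsg.Agent.H364.UnitaryReg

/-!
# S3442, X4': the Heisenberg groups `E = {siegel u w μ : w ∈ S}` of `SU_n(q)` (helper813)

* `HS S u` : `S ⊥ u`, `u` isotropic, the form is nondegenerate on `S`;
* `EG`, `ZG` : the group and its centre;
* `cdata`, `odata` : the data for TOOL C.
-/

set_option autoImplicit false
set_option linter.unusedSectionVars false

namespace Cfsg.Agent.H813.CV

open Cfsg Cfsg.Agent.LieClassical.HermBasic Cfsg.Agent.LieClassical.HermSiegel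

universe v

variable {F : Type v} [Field F] [Fintype F] {n q : ℕ}

/-- the hypotheses on `u` and `S` -/
structure HS (q : ℕ) (S : Submodule F (Fin n → F)) (u : Fin n → F) : Prop where
  iso : hermForm n F q u u = 0
  ne : u ≠ 0
  orth : ∀ w ∈ S, hermForm n F q w u = 0
  nd : ∀ w ∈ S, (∀ w' ∈ S, hermForm n F q w w' = 0) → w = 0

variable (hF : Fintype.card F = q ^ 2) {S : Submodule F (Fin n → F)} {u : Fin n → F} (H : HS q S u)

namespace HS

include hF H

theorem siegel_inj {w w' : Fin n → F} {μ μ' : F} (hw : w ∈ S) (hw' : w' ∈ S) {h : IsSiegel q u w μ} {h' : IsSiegel q u w' μ'}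
    (he : siegel hF u w μ h = siegel hF u w' μ' h') : w = w' ∧ μ = μ' := by
  -- a vector `v` with `h (v, u) = 1`
  obtain ⟨v₀, hv₀⟩ := exists_herm_ne_zero hF H.ne
  have hv₀' : hermForm n F q v₀ u ≠ 0 := fun h => hv₀ (herm_eq_zero_swap hF h)
  set v := (hermForm n F q v₀ u)⁻¹ • v₀ with hv
  have hvu : hermForm n F q v u = 1 := by rw [hv, herm_smul_left, inv_mul_cancel₀ hv₀']
  have h1 := act_siegel hF h v
  have h2 := act_siegel hF h' v
  rw [he, h2, hvu, one_smul, one_smul, mul_one, mul_one] at h1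
  -- the difference
  have h3 : w' - w = ((μ - hermForm n F q v w) - (μ' - hermForm n F q v w')) • u := by
    rw [sub_smul]
    have h4 : w' + (μ' - hermForm n F q v w') • u = w + (μ - hermForm n F q v w) • u := by
      rw [add_assoc, add_assoc] at h1
      exact add_left_cancel h1
    rw [sub_eq_sub_iff_add_eq_add, h4, add_comm]
  have h4 : w' - w = 0 := by
    apply H.nd _ (S.sub_mem hw' hw)
    intro x hx
    rw [h3, herm_smul_left, herm_eq_zero_swap hF (H.orth x hx), mul_zero]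
  have h5 : w = w' := (sub_eq_zero.1 h4).symm
  subst h5
  refine ⟨rfl, ?_⟩
  rw [h4] at h3
  have h6 := (smul_eq_zero.1 h3.symm).resolve_right H.ne
  linear_combination h6

omit H in
theorem siegel_eq_one_iff {w : Fin n → F} {μ : F} (H : HS q S u) (hw : w ∈ S) {h : IsSiegel q u w μ} :
    siegel hF u w μ h = 1 ↔ w = 0 ∧ μ = 0 := by
  have h0 : IsSiegel q u 0 (0 : F) := IsSiegel.zero hF H.iso
  rw [← siegel_zero hF h0]
  constructor
  · intro he
    exact siegel_inj hF H hw S.zero_mem he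
  · rintro ⟨rfl, rfl⟩
    rfl

end HS

/-- the Heisenberg group -/
def EG (H : HS q S u) : Subgroup (SU n F q) where
  carrier := {g | ∃ w ∈ S, ∃ (μ : F) (h : IsSiegel q u w μ), g = siegel hF u w μ h}
  mul_mem' := by
    rintro _ _ ⟨w, hw, μ, h, rfl⟩ ⟨w', hw', μ', h', rfl⟩
    exact ⟨w + w', S.add_mem hw hw', _, _, siegel_mul hF h h'⟩
  one_mem' := ⟨0, S.zero_mem, 0, IsSiegel.zero hF H.iso, (siegel_zero hF _).symm⟩
  inv_mem' := by
    rintro _ ⟨w, hw, μ, h, rfl⟩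
    exact ⟨-w, S.neg_mem hw, _, _, siegel_inv hF h⟩

/-- its centre -/
def ZG (H : HS q S u) : Subgroup (SU n F q) where
  carrier := {g | ∃ (μ : F) (h : IsSiegel q u 0 μ), g = siegel hF u 0 μ h}
  mul_mem' := by
    rintro _ _ ⟨μ, h, rfl⟩ ⟨μ', h', rfl⟩
    exact ⟨_, _, (siegel_mul hF h h').trans (siegel_congr hF _ (by
      have := h.mul hF h'
      rwa [add_zero] at this) rfl (add_zero 0) rfl)⟩
  one_mem' := ⟨0, IsSiegel.zero hF H.iso, (siegel_zero hF _).symm⟩
  inv_mem' := by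
    rintro _ ⟨μ, h, rfl⟩
    exact ⟨_, _, (siegel_inv hF h).trans (siegel_congr hF _ (by
      have := h.inv hF
      rwa [neg_zero] at this) rfl neg_zero rfl)⟩

section

variable {hF}

theorem mem_EG {g : SU n F q} : g ∈ EG hF H ↔ ∃ w ∈ S, ∃ (μ : F) (h : IsSiegel q u w μ), g = siegel hF u w μ h := Iff.rfl

theorem mem_ZG {g : SU n F q} : g ∈ ZG hF H ↔ ∃ (μ : F) (h : IsSiegel q u 0 μ), g = siegel hF u 0 μ h := Iff.rfl

theorem ZG_le : ZG hF H ≤ EG hF H := by
  rintro _ ⟨μ, h, rfl⟩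
  exact ⟨0, S.zero_mem, μ, h, rfl⟩

theorem siegel_mem_ZG {w : Fin n → F} {μ : F} (hw : w ∈ S) {h : IsSiegel q u w μ} :
    siegel hF u w μ h ∈ ZG hF H ↔ w = 0 := by
  constructor
  · rintro ⟨μ', h', he⟩
    exact (H.siegel_inj hF hw S.zero_mem he).1
  · rintro rfl
    exact ⟨μ, h, rfl⟩

omit hF in
theorem isSiegel_comm (hF : Fintype.card F = q ^ 2) {w w' : Fin n → F} {μ μ' : F} (h : IsSiegel q u w μ) (_ : IsSiegel q u w' μ') :
    IsSiegel q u 0 (hermForm n F q w w' - hermForm n F q w' w) := by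
  refine ⟨h.iso, herm_zero_left u, ?_⟩
  rw [herm_zero_left, sub_pow_q hF, ← herm_swap hF, ← herm_swap hF]
  ring

/-- the commutator -/
theorem comm_siegel {w w' : Fin n → F} {μ μ' : F} (h : IsSiegel q u w μ) (h' : IsSiegel q u w' μ') :
    siegel hF u w μ h * siegel hF u w' μ' h' * (siegel hF u w μ h)⁻¹ * (siegel hF u w' μ' h')⁻¹ =
      siegel hF u 0 (hermForm n F q w w' - hermForm n F q w' w) (isSiegel_comm hF h h') := by
  rw [mul_inv_eq_iff_eq_mul, mul_inv_eq_iff_eq_mul, siegel_mul, siegel_mul, siegel_mul]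
  apply siegel_congr hF _ _ rfl
  · rw [zero_add, add_comm]
  · rw [herm_zero_right hF]
    ring

theorem comm_ZG {e z : SU n F q} (he : e ∈ EG hF H) (hz : z ∈ ZG hF H) : e * z = z * e := by
  obtain ⟨w, hw, μ, h, rfl⟩ := he
  obtain ⟨μ', h', rfl⟩ := hz
  rw [siegel_mul, siegel_mul]
  apply siegel_congr hF _ _ rfl (add_comm _ _)
  rw [herm_zero_left, herm_zero_right hF]
  ring

theorem comm_mem {e f : SU n F q} (he : e ∈ EG hF H) (hf : f ∈ EG hF H) : e * f * e⁻¹ * f⁻¹ ∈ ZG hF H := by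
  obtain ⟨w, hw, μ, h, rfl⟩ := he
  obtain ⟨w', hw', μ', h', rfl⟩ := hf
  exact ⟨_, _, comm_siegel h h'⟩

/-- every element of the centre is a commutator `[f, e]`, `e` not central -/
theorem exists_comm {e z : SU n F q} (he : e ∈ EG hF H) (hez : e ∉ ZG hF H) (hz : z ∈ ZG hF H) :
    ∃ f ∈ EG hF H, f * e * f⁻¹ * e⁻¹ = z := by
  obtain ⟨w, hw, μ, h, rfl⟩ := he
  obtain ⟨ν, hν, rfl⟩ := hz
  have hw0 : w ≠ 0 := fun h0 => hez ((siegel_mem_ZG H hw).2 h0)
  -- a vector `w₁` with `h (w₁, w) ≠ 0`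
  obtain ⟨w₁, hw₁, hne⟩ : ∃ w₁ ∈ S, hermForm n F q w₁ w ≠ 0 := by
    by_contra hcon
    push Not at hcon
    exact hw0 (H.nd w hw fun x hx => herm_eq_zero_swap hF (hcon x hx))
  have hν' : ν + ν ^ q = 0 := by
    have := hν.tr
    rwa [herm_zero_left, add_zero] at this
  obtain ⟨t, ht⟩ := exists_trace_eq hF (c := (1 : F)) (one_pow q)
  set x := ν * t with hx
  have hx' : x - x ^ q = ν := by
    rw [hx, mul_pow]
    linear_combination ν * ht - t ^ q * hν'
  set w₂ := (x * (hermForm n F q w₁ w)⁻¹) • w₁ with hw₂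
  have hw₂S : w₂ ∈ S := S.smul_mem _ hw₁
  have h1 : hermForm n F q w₂ w = x := by
    rw [hw₂, herm_smul_left, mul_assoc, inv_mul_cancel₀ hne, mul_one]
  have h2 : hermForm n F q w w₂ = x ^ q := by rw [herm_swap hF, h1]
  -- the element
  obtain ⟨μ₂, hμ₂⟩ := exists_trace_eq hF (c := -hermForm n F q w₂ w₂) (by
    rw [neg_pow_q hF, ← herm_swap hF])
  have h3 : IsSiegel q u w₂ μ₂ := ⟨H.iso, H.orth _ hw₂S, by rw [hμ₂]; ring⟩
  refine ⟨siegel hF u w₂ μ₂ h3, ⟨w₂, hw₂S, μ₂, h3, rfl⟩, ?_⟩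
  rw [comm_siegel h3 h]
  exact siegel_congr hF _ _ rfl rfl (by rw [h1, h2, hx'])

end

/-! ### the order -/

/-- the additive group of the trace zero elements -/
def tz (hF : Fintype.card F = q ^ 2) : AddSubgroup F where
  carrier := {μ | μ + μ ^ q = 0}
  add_mem' := by
    intro a b ha hb
    change a + b + (a + b) ^ q = 0
    change a + a ^ q = 0 at ha
    change b + b ^ q = 0 at hb
    rw [add_pow_q hF]
    linear_combination ha + hb
  zero_mem' := by
    change (0 : F) + 0 ^ q = 0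
    rw [zero_pow_q hF, add_zero]
  neg_mem' := by
    intro a ha
    change -a + (-a) ^ q = 0
    change a + a ^ q = 0 at ha
    rw [neg_pow_q hF]
    linear_combination -ha

theorem isSiegel_zero {μ : F} : IsSiegel q u 0 μ ↔ hermForm n F q u u = 0 ∧ μ + μ ^ q = 0 := by
  constructor
  · intro h
    refine ⟨h.iso, ?_⟩
    have := h.tr
    rwa [herm_zero_left, add_zero] at this
  · rintro ⟨h1, h2⟩
    exact ⟨h1, herm_zero_left u, by rw [herm_zero_left, add_zero]; exact h2⟩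

theorem card_ZG : Nat.card (ZG hF H) = Nat.card (tz hF) := by
  symm
  apply Nat.card_congr
  have h : ∀ μ : tz hF, IsSiegel q u 0 (μ : F) := fun μ => isSiegel_zero.2 ⟨H.iso, μ.2⟩
  refine Equiv.ofBijective (fun μ : tz hF => (⟨siegel hF u 0 μ (h μ), ⟨μ, h μ, rfl⟩⟩ : ZG hF H)) ⟨?_, ?_⟩
  · intro a b hab
    exact Subtype.ext (H.siegel_inj hF S.zero_mem S.zero_mem (h := h a) (h' := h b) (congrArg Subtype.val hab)).2
  · rintro ⟨_, μ, h', rfl⟩
    exact ⟨⟨μ, (isSiegel_zero.1 h').2⟩, rfl⟩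

theorem card_EG : Nat.card (EG hF H) = Nat.card S * Nat.card (ZG hF H) := by
  classical
  have hex : ∀ w : S, ∃ μ : F, IsSiegel q u (w : Fin n → F) μ := by
    intro w
    obtain ⟨μ₂, hμ₂⟩ := exists_trace_eq hF (c := -hermForm n F q (w : Fin n → F) w) (by
      rw [neg_pow_q hF, ← herm_swap hF])
    exact ⟨μ₂, H.iso, H.orth _ w.2, by rw [hμ₂]; ring⟩
  choose m hm using hex
  rw [← Nat.card_prod]
  symm
  apply Nat.card_congr
  refine Equiv.ofBijective (fun x : S × ZG hF H => (⟨siegel hF u x.1 (m x.1) (hm x.1) * x.2,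
    (EG hF H).mul_mem ⟨x.1, x.1.2, _, hm x.1, rfl⟩ (ZG_le H x.2.2)⟩ : EG hF H)) ⟨?_, ?_⟩
  · rintro ⟨w, ⟨_, μ, h, rfl⟩⟩ ⟨w', ⟨_, μ', h', rfl⟩⟩ he
    have h1 : siegel hF u (w : Fin n → F) (m w) (hm w) * siegel hF u 0 μ h =
      siegel hF u (w' : Fin n → F) (m w') (hm w') * siegel hF u 0 μ' h' := congrArg Subtype.val he
    rw [siegel_mul, siegel_mul] at h1
    obtain ⟨h2, h3⟩ := H.siegel_inj hF (S.add_mem w.2 S.zero_mem) (S.add_mem w'.2 S.zero_mem) h1
    rw [add_zero, add_zero] at h2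
    have h4 : w = w' := Subtype.ext h2
    subst h4
    rw [herm_zero_left, sub_zero, sub_zero] at h3
    have h5 : μ = μ' := add_left_cancel h3
    subst h5
    rfl
  · rintro ⟨_, w, hw, μ, h, rfl⟩
    have h0 : IsSiegel q u 0 (μ - m ⟨w, hw⟩) := by
      refine isSiegel_zero.2 ⟨H.iso, ?_⟩
      rw [sub_pow_q hF]
      linear_combination h.tr - (hm ⟨w, hw⟩).tr
    refine ⟨(⟨w, hw⟩, ⟨_, μ - m ⟨w, hw⟩, h0, rfl⟩), Subtype.ext ?_⟩
    change siegel hF u w (m ⟨w, hw⟩) (hm ⟨w, hw⟩) * siegel hF u 0 (μ - m ⟨w, hw⟩) h0 = siegel hF u w μ h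
    rw [siegel_mul]
    exact siegel_congr hF _ _ rfl (add_zero _) (by rw [herm_zero_left]; ring)

theorem not_dvd_card {r : ℕ} (hr : r.Prime) (hrq : ¬ r ∣ q) : ¬ r ∣ Nat.card (EG hF H) := by
  intro h
  rw [card_EG, card_ZG] at h
  apply hrq
  rcases (hr.dvd_mul).1 h with h | h
  · rw [Module.natCard_eq_pow_finrank (K := F)] at h
    have h1 := hr.dvd_of_dvd_pow h
    rw [Nat.card_eq_fintype_card, hF] at h1
    exact hr.dvd_of_dvd_pow h1
  · have h1 := h.trans (AddSubgroup.card_addSubgroup_dvd_card (tz hF))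
    rw [Nat.card_eq_fintype_card, hF] at h1
    exact hr.dvd_of_dvd_pow h1

/-! ### the element `c` -/

section

variable {hF}

/-- conjugation of a Siegel transformation by an element mapping `u` to `α u`, `α ^ (q + 1) = 1` -/
theorem conj_siegel_smul {c : SU n F q} {α : F} (hα : α * α ^ q = 1) (hcu : act c u = α • u) {w : Fin n → F} {μ : F}
    (h : IsSiegel q u w μ) : ∃ h' : IsSiegel q u (α ^ q • act c w) μ,
      c * siegel hF u w μ h * c⁻¹ = siegel hF u (α ^ q • act c w) μ h' := by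
  have h1 : IsSiegel q (α • u) (act c w) μ := by
    have := h.map c
    rwa [hcu] at this
  have h2 : IsSiegel q u (act c w) μ := by
    have h3 := h1.smul (c := α⁻¹)
    have hα0 : α ≠ 0 := left_ne_zero_of_mul_eq_one hα
    rwa [smul_smul, inv_mul_cancel₀ hα0, one_smul] at h3
  have h3 := h2.smul' hF (c := α)
  rw [hα, one_mul] at h3
  refine ⟨h3, ?_⟩
  rw [conj_siegel hF h c, siegel_congr hF _ h2.smul hcu rfl rfl, siegel_smul hF h2]
  exact siegel_congr hF _ _ rfl rfl (by rw [hα, one_mul])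

/-- iteration -/
theorem act_pow_smul {c : SU n F q} {α : F} (hcu : act c u = α • u) (i : ℕ) : act (c ^ i) u = α ^ i • u := by
  induction i with
  | zero => rw [pow_zero, pow_zero, act_one, one_smul]
  | succ i ih => rw [pow_succ', act_mul, ih, act_smul, hcu, smul_smul, pow_succ]

theorem conj_pow_siegel {c : SU n F q} {α : F} (hα : α * α ^ q = 1) (hcu : act c u = α • u) {w : Fin n → F} {μ : F}
    (h : IsSiegel q u w μ) (i : ℕ) : ∃ h' : IsSiegel q u ((α ^ i) ^ q • act (c ^ i) w) μ,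
      c ^ i * siegel hF u w μ h * (c ^ i)⁻¹ = siegel hF u ((α ^ i) ^ q • act (c ^ i) w) μ h' :=
  conj_siegel_smul (by rw [← pow_mul, mul_comm i q, pow_mul, ← mul_pow, hα, one_pow]) (act_pow_smul hcu i) h

theorem act_mem_pow {c : SU n F q} (hcS : ∀ w ∈ S, act c w ∈ S) (i : ℕ) : ∀ w ∈ S, act (c ^ i) w ∈ S := by
  induction i with
  | zero =>
    intro w hw
    rw [pow_zero, act_one]
    exact hw
  | succ i ih =>
    intro w hw
    rw [pow_succ', act_mul]
    exact hcS _ (ih w hw)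

theorem conj_mem_EG {c : SU n F q} {α : F} (hα : α * α ^ q = 1) (hcu : act c u = α • u) (hcS : ∀ w ∈ S, act c w ∈ S)
    {e : SU n F q} (he : e ∈ EG hF H) (i : ℕ) : c ^ i * e * (c ^ i)⁻¹ ∈ EG hF H := by
  obtain ⟨w, hw, μ, h, rfl⟩ := he
  obtain ⟨h', h1⟩ := conj_pow_siegel (hF := hF) hα hcu h i
  exact ⟨_, S.smul_mem _ (act_mem_pow hcS i w hw), _, h', h1⟩

theorem conj_ZG {c : SU n F q} {α : F} (hα : α * α ^ q = 1) (hcu : act c u = α • u) {z : SU n F q} (hz : z ∈ ZG hF H)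
    (i : ℕ) : c ^ i * z * (c ^ i)⁻¹ = z := by
  obtain ⟨μ, h, rfl⟩ := hz
  obtain ⟨h', h1⟩ := conj_pow_siegel (hF := hF) hα hcu h i
  rw [h1]
  exact siegel_congr hF _ _ rfl (by rw [act_zero, smul_zero]) rfl

/-- `e⁻¹ (c ^ i e c ^ (-i))` is central iff the vector is fixed -/
theorem inv_mul_conj_mem {c : SU n F q} {α : F} (hα : α * α ^ q = 1) (hcu : act c u = α • u) (hcS : ∀ w ∈ S, act c w ∈ S)
    {w : Fin n → F} (hw : w ∈ S) {μ : F} (h : IsSiegel q u w μ) (i : ℕ) :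
    (siegel hF u w μ h)⁻¹ * (c ^ i * siegel hF u w μ h * (c ^ i)⁻¹) ∈ ZG hF H ↔ (α ^ i) ^ q • act (c ^ i) w = w := by
  obtain ⟨h', h1⟩ := conj_pow_siegel (hF := hF) hα hcu h i
  rw [h1, siegel_inv, siegel_mul, siegel_mem_ZG H (S.add_mem (S.neg_mem hw) (S.smul_mem _ (act_mem_pow hcS i w hw))),
    neg_add_eq_zero, eq_comm]

/-- **the data for TOOL C** -/
theorem cdata {c : SU n F q} {α : F} (hα : α * α ^ q = 1) (hcu : act c u = α • u) (hcS : ∀ w ∈ S, act c w ∈ S)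
    {r j N : ℕ} (hr : r.Prime) (hrq : ¬ r ∣ q) (ho : orderOf c = r ^ j) (hN : Nat.card S = N ^ 2) (hle : r ^ j ≤ N)
    (hsemi : ∀ w ∈ S, w ≠ 0 → ∀ i, 0 < i → i < r ^ j → (α ^ i) ^ q • act (c ^ i) w ≠ w)
    {K : Subgroup (SU n F q)} {z₀ : SU n F q} (hz₀ : z₀ ∈ ZG hF H) (hK : z₀ ∉ K) :
    Cfsg.Agent.H377.CV.CData c (ZG hF H) K r 1 j N (EG hF H) where
  order := by rw [ho, one_mul]
  le := hle
  ndvd := not_dvd_card hF H hr hrq
  fix := by
    intro z hz
    rw [conj_ZG H hα hcu hz, mul_inv_cancel]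
    exact K.one_mem
  move := by
    intro i h1 h2
    omega
  leE := ZG_le H
  central := fun e he z hz => comm_ZG H he hz
  comm := fun e he f hf => comm_mem H he hf
  card := by rw [card_EG, hN]
  nondeg := by
    intro e he h
    by_contra hez
    obtain ⟨f, hf, h1⟩ := exists_comm H he hez hz₀
    exact hK (h1 ▸ h f hf)
  norm := fun e he => conj_mem_EG H hα hcu hcS he 1
  semi := by
    rintro _ ⟨w, hw, μ, h, rfl⟩ hez i hi him
    rw [one_mul, inv_mul_conj_mem H hα hcu hcS hw h i]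
    exact hsemi w hw (fun h0 => hez ((siegel_mem_ZG H hw).2 h0)) i hi him

end

end Cfsg.Agent.H813.CV
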