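import Cfsg.Agent.H813.CV.M9Abs
import Cfsg.Agent.H813.CV.Dir
import Cfsg.Agent.H357.M9.Iso
import Cfsg.Agent.H357.M9.Tr

/-!
# S3442, M9, piece A2: the root groups of `SU_3(q)` have no fixed vectors (helper813)
-/

set_option autoImplicit false
set_option linter.unusedSectionVars false

namespace Cfsg.Agent.H813.CV.M9

open Cfsg Cfsg.Agent.LieClassical.HermBasic Cfsg.Agent.LieClassical.HermSiegel Cfsg.Agent.LieClassical.HermGen Matrix Module
open Cfsg.Agent.H357.M9

universe u v w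

section Geometry

variable {F : Type v} [Field F] [Fintype F] {q : ℕ}

/-- the stabiliser of the vector `v` -/
def QV (v : Fin 3 → F) : Subgroup (SU 3 F q) where
  carrier := {g | act g v = v}
  mul_mem' := by
    intro a b ha hb
    change act (a * b) v = v
    rw [act_mul]
    have hb' : act b v = v := hb
    rw [hb']
    exact ha
  one_mem' := act_one v
  inv_mem' := by
    intro a ha
    have ha' : act a v = v := ha
    change act a⁻¹ v = v
    conv_lhs => rw [← ha', act_inv_act]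

theorem mem_QV {v : Fin 3 → F} {g : SU 3 F q} : g ∈ QV v ↔ act g v = v := Iff.rfl

/-- the coordinate of `Q / X` -/
def al (e f : Fin 3 → F) (x : SU 3 F q) : F := hermForm 3 F q (act x f) e

theorem act_of_inv {g : SU 3 F q} {v : Fin 3 → F} {t : F} (ht : t ≠ 0) (hg : act g v = t • v) : act g⁻¹ v = t⁻¹ • v := by
  have h1 : v = t⁻¹ • act g v := by rw [hg, smul_smul, inv_mul_cancel₀ ht, one_smul]
  conv_lhs => rw [h1, act_smul, act_inv_act]

variable (hF : Fintype.card F = q ^ 2) {v e f : Fin 3 → F} (h : Fr3 q v e f)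
include hF h

theorem fix_one {g : SU 3 F q} (h1 : act g v = v) (h2 : act g f = f) : g = 1 := by
  obtain ⟨a, b, c, d, t, h3, h4, h5, h6, h7, -, -⟩ := h.tri hF (g := g) (θ := 1) (by rw [one_smul]; exact h1)
  rw [one_pow, mul_one] at h5
  rw [h5, one_mul, mul_one] at h7
  rw [h7, one_smul] at h3
  have hd : d = 0 := by
    have h8 : hermForm 3 F q (act g e) (act g f) = 0 := by rw [herm_act, h.ef]
    rw [h3, h2, herm_add_left, herm_smul_left, h.vf, h.ef, mul_one, add_zero] at h8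
    exact h8
  rw [hd, zero_smul, zero_add] at h3
  apply h.ext hF
  · rw [h1, act_one]
  · rw [h3, act_one]
  · rw [h2, act_one]

theorem fix_ext {g g' : SU 3 F q} (h1 : act g v = act g' v) (h2 : act g f = act g' f) : g = g' := by
  have h3 : g'⁻¹ * g = 1 := by
    apply fix_one hF h
    · rw [act_mul, h1, act_inv_act]
    · rw [act_mul, h2, act_inv_act]
  exact (inv_mul_eq_one.1 h3).symm

theorem act_f {x : SU 3 F q} (hx : act x v = v) :
    act x f = f + al e f x • e + hermForm 3 F q (act x f) f • v := by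
  have h1 := h.decomp hF (act x f)
  have h2 : hermForm 3 F q (act x f) v = 1 := by
    conv_lhs => rw [← hx, herm_act, h.fv]
  rw [h2, one_smul] at h1
  conv_lhs => rw [h1]
  rw [al]
  abel

theorem act_e {x : SU 3 F q} (hx : act x v = v) : ∃ d : F, act x e = e + d • v := by
  obtain ⟨a, b, c, d, t, h3, h4, h5, h6, h7, -, -⟩ := h.tri hF (g := x) (θ := 1) (by rw [one_smul]; exact hx)
  rw [one_pow, mul_one] at h5
  rw [h5, one_mul, mul_one] at h7
  rw [h7, one_smul] at h3
  exact ⟨d, by rw [h3, add_comm]⟩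

theorem al_mul {x y : SU 3 F q} (hx : act x v = v) (hy : act y v = v) : al e f (x * y) = al e f x + al e f y := by
  obtain ⟨d, hd⟩ := act_e hF h hx
  rw [al, act_mul, act_f hF h hy, act_add, act_add, act_smul, act_smul, hx, hd, herm_add_left, herm_add_left, herm_smul_left,
    herm_smul_left, herm_add_left, herm_smul_left, h.ve, h.ee, al, al]
  ring

theorem eq_xs {x : SU 3 F q} (hx : act x v = v) (h0 : al e f x = 0) : ∃ μ : Skew F q, x = xs hF v h.vv μ := by
  have h1 := act_f hF h hx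
  rw [h0, zero_smul, add_zero] at h1
  set μ := hermForm 3 F q (act x f) f with hμ
  have h2 : μ + μ ^ q = 0 := by
    have h3 : hermForm 3 F q (act x f) (act x f) = 0 := by rw [herm_act, h.ff]
    rw [h1, herm_add_left, herm_add_right hF, herm_add_right hF, herm_smul_left, herm_smul_right, herm_smul_left,
      herm_smul_right, h.ff, h.fv, h.vf, h.vv] at h3
    linear_combination h3
  refine ⟨⟨μ, h2⟩, fix_ext hF h ?_ ?_⟩
  · rw [hx, act_xs, h.vv, mul_zero, zero_smul, add_zero]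
  · rw [h1, act_xs, h.fv, mul_one]

theorem xs_mem (μ : Skew F q) : act (xs hF v h.vv μ) v = v ∧ al e f (xs hF v h.vv μ) = 0 := by
  constructor
  · rw [act_xs, h.vv, mul_zero, zero_smul, add_zero]
  · rw [al, act_xs, h.fv, mul_one, herm_add_left, herm_smul_left, h.fe, h.ve, mul_zero, add_zero]

/-- an element of `Q` with prescribed image of `f` -/
theorem exists_Q {a μ : F} (hμ : μ + μ ^ q + a * a ^ q = 0) : ∃ x : SU 3 F q, act x v = v ∧ act x f = μ • v + a • e + f := by
  have hs : IsSiegel q v (a • e) μ := by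
    refine ⟨h.vv, ?_, ?_⟩
    · rw [herm_smul_left, h.ev, mul_zero]
    · rw [herm_smul_left, herm_smul_right, h.ee, mul_one, hμ]
  refine ⟨siegel hF v (a • e) μ hs, act_siegel_self hF hs, ?_⟩
  rw [act_siegel, h.fv, one_smul, mul_one, herm_smul_right, h.fe, mul_zero, sub_zero]
  abel

theorem al_surj (a : F) : ∃ x : SU 3 F q, act x v = v ∧ al e f x = a := by
  obtain ⟨μ, hμ⟩ := exists_trace_eq hF (c := -(a * a ^ q)) (by
    rw [neg_pow_q hF, mul_pow, pow_q_pow_q hF, mul_comm])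
  obtain ⟨x, hx, hxf⟩ := exists_Q hF h (a := a) (μ := μ) (by rw [hμ, neg_add_cancel])
  refine ⟨x, hx, ?_⟩
  rw [al, hxf, herm_add_left, herm_add_left, herm_smul_left, herm_smul_left, h.ve, h.ee, h.fe]
  ring

/-- torus elements -/
theorem exists_tor {t : F} (ht : t ≠ 0) : ∃ y : SU 3 F q, act y v = t • v ∧ act y f = (t ^ q)⁻¹ • f := by
  obtain ⟨g, -, h1, h2⟩ := exists_map_hyp hF (le_refl 3) (le_refl 3) (u := v) (u' := f) (v := t • v) (v' := (t ^ q)⁻¹ • f)
    (mem_coord _) (mem_coord _) (mem_coord _) (mem_coord _) h.vv h.ff h.vf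
    (by rw [herm_smul_left, herm_smul_right, h.vv, mul_zero, mul_zero])
    (by rw [herm_smul_left, herm_smul_right, h.ff, mul_zero, mul_zero])
    (by rw [herm_smul_left, herm_smul_right, h.vf, mul_one, inv_pow, pow_q_pow_q hF, mul_inv_cancel₀ ht])
  exact ⟨g, h1, h2⟩

theorem exists_w : ∃ w : SU 3 F q, act w v = f ∧ act w f = v := by
  obtain ⟨g, -, h1, h2⟩ := exists_map_hyp hF (le_refl 3) (le_refl 3) (u := v) (u' := f) (v := f) (v' := v)
    (mem_coord _) (mem_coord _) (mem_coord _) (mem_coord _) h.vv h.ff h.vf h.ff h.vv h.fv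
  exact ⟨g, h1, h2⟩

theorem tor_pow {t : F} {y : SU 3 F q} (h1 : act y v = t • v) (h2 : act y f = (t ^ q)⁻¹ • f) (i : ℕ) :
    y ^ i = 1 ↔ t ^ i = 1 := by
  have hv := h.ne_zero
  constructor
  · intro h3
    have h4 := act_pow_eig h1 i
    rw [h3, act_one] at h4
    have h5 : (t ^ i - 1) • v = 0 := by rw [sub_smul, one_smul, ← h4, sub_self]
    exact sub_eq_zero.1 ((smul_eq_zero.1 h5).resolve_right hv)
  · intro h3
    apply fix_one hF h
    · rw [act_pow_eig h1, h3, one_smul]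
    · rw [act_pow_eig h2, inv_pow, ← pow_mul, mul_comm, pow_mul, h3, one_pow, inv_one, one_smul]

theorem tor_al {t : F} (ht : t ≠ 0) {y : SU 3 F q} (h1 : act y v = t • v) (h2 : act y f = (t ^ q)⁻¹ • f) {x : SU 3 F q}
    (hx : act x v = v) : act (y⁻¹ * x * y) v = v ∧ al e f (y⁻¹ * x * y) = (t * ((t ^ q)⁻¹) ^ 2) * al e f x := by
  have htq : t ^ q ≠ 0 := pow_ne_zero _ ht
  have h3 := act_of_inv ht h1
  have h4 := act_of_inv (inv_ne_zero htq) h2
  rw [inv_inv] at h4
  constructor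
  · rw [act_mul, act_mul, h1, act_smul, hx, act_smul, h3, smul_smul, mul_inv_cancel₀ ht, one_smul]
  · obtain ⟨a, b, c, d, t', h5, h6, h7, h8, h9, -, -⟩ := h.tri hF (g := y⁻¹) (θ := t⁻¹) h3
    have hc : c = t * (t ^ q)⁻¹ := by
      rw [inv_pow] at h7
      have ht' : t' = t ^ q := by
        field_simp at h7
        exact h7
      rw [ht'] at h9
      field_simp at h9 ⊢
      exact h9
    rw [al, act_mul, act_mul, h2, act_smul, act_smul, act_f hF h hx, act_add, act_add, act_smul, act_smul, h3, h4, h5,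
      herm_smul_left, herm_add_left, herm_add_left, herm_smul_left, herm_smul_left, herm_smul_left, herm_smul_left,
      herm_add_left, herm_smul_left, herm_smul_left, h.fe, h.ve, h.ee, hc]
    ring

omit h in
theorem exists_gen : ∃ t : F, t ≠ 0 ∧ ∀ s : F, s ≠ 0 → ∃ i : ℕ, s = t ^ i := by
  obtain ⟨g, hg⟩ := IsCyclic.exists_generator (α := Fˣ)
  refine ⟨g, g.ne_zero, fun s hs => ?_⟩
  have h1 := hg (Units.mk0 s hs)
  rw [← mem_powers_iff_mem_zpowers, Submonoid.mem_powers_iff] at h1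
  obtain ⟨i, hi⟩ := h1
  refine ⟨i, ?_⟩
  have := congrArg Units.val hi
  rw [Units.val_pow_eq_pow_val, Units.val_mk0] at this
  exact this.symm

/-- Bruhat decomposition -/
theorem bruhat {t₀ : F} (ht₀ : t₀ ≠ 0) (hgen : ∀ s : F, s ≠ 0 → ∃ i : ℕ, s = t₀ ^ i) {y w : SU 3 F q}
    (hy : act y v = t₀ • v) (hw : act w v = f) (g : SU 3 F q) :
    (∃ i : ℕ, ∃ x ∈ QV v, g = y ^ i * x) ∨ ∃ x ∈ QV v, ∃ i : ℕ, ∃ x' ∈ QV v, g = x * w * (y ^ i * x') := by
  have hv := h.ne_zero
  have key : ∀ (b : SU 3 F q) (θ : F), act b v = θ • v → ∃ i : ℕ, ∃ x ∈ QV v, b = y ^ i * x := by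
    intro b θ hb
    have hθ : θ ≠ 0 := by
      rintro rfl
      rw [zero_smul, act_eq_zero] at hb
      exact hv hb
    obtain ⟨i, hi⟩ := hgen θ hθ
    refine ⟨i, (y ^ i)⁻¹ * b, ?_, by group⟩
    rw [mem_QV, act_mul, hb, hi, act_smul, act_of_inv (pow_ne_zero i ht₀) (act_pow_eig hy i), smul_smul,
      mul_inv_cancel₀ (pow_ne_zero i ht₀), one_smul]
  by_cases hgv : hermForm 3 F q (act g v) v = 0
  · left
    obtain ⟨c, hc⟩ := prop_of_orth hF hv h.vv hgv (by rw [herm_act, h.vv])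
    exact key g c hc
  · right
    set κ := hermForm 3 F q (act g v) v with hκ
    set z := κ⁻¹ • act g v with hz
    have hzv : hermForm 3 F q z v = 1 := by rw [hz, herm_smul_left, inv_mul_cancel₀ hgv]
    have hzz : hermForm 3 F q z z = 0 := by
      rw [hz, herm_smul_left, herm_smul_right, herm_act, h.vv, mul_zero, mul_zero]
    have hd := h.decomp hF z
    rw [hzv, one_smul] at hd
    set μ := hermForm 3 F q z f with hμ
    set a := hermForm 3 F q z e with ha
    obtain ⟨x, hx, hxf⟩ := exists_Q hF h (a := a) (μ := μ) (by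
      rw [hd] at hzz
      simp only [herm_add_left, herm_add_right hF, herm_smul_left, herm_smul_right, h.vv, h.ev, h.ve, h.ee, h.ff, h.fv, h.vf,
        h.ef, h.fe] at hzz
      linear_combination hzz)
    rw [← hd] at hxf
    obtain ⟨i, x', hx', hb⟩ := key ((x * w)⁻¹ * g) κ (by
      have h1 : act g v = κ • act (x * w) v := by
        rw [act_mul, hw, hxf, hz, smul_smul, mul_inv_cancel₀ hgv, one_smul]
      rw [act_mul, h1, act_smul, act_inv_act])
    refine ⟨x, hx, i, x', hx', ?_⟩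
    rw [← hb]
    group

/-- the kernel of `al` -/
def XV : Subgroup (SU 3 F q) where
  carrier := {g | act g v = v ∧ al e f g = 0}
  mul_mem' := by
    rintro a b ⟨ha, ha'⟩ ⟨hb, hb'⟩
    exact ⟨(QV v).mul_mem (mem_QV.2 ha) (mem_QV.2 hb), by rw [al_mul hF h ha hb, ha', hb', add_zero]⟩
  one_mem' := ⟨act_one v, by rw [al, act_one, h.fe]⟩
  inv_mem' := by
    rintro a ⟨ha, ha'⟩
    have h1 : act a⁻¹ v = v := (QV v).inv_mem (mem_QV.2 ha)
    refine ⟨h1, ?_⟩
    have h2 := al_mul hF h ha h1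
    rw [mul_inv_cancel, al, act_one, h.fe, ha', zero_add] at h2
    exact h2.symm

theorem mem_XV {g : SU 3 F q} : g ∈ XV hF h ↔ act g v = v ∧ al e f g = 0 := Iff.rfl

/-- no involution fixes `v` -/
theorem odd_QV (h2 : (2 : F) ≠ 0) : ¬ 2 ∣ Nat.card (QV (q := q) v) := by
  intro hd
  obtain ⟨x, hx⟩ := exists_prime_orderOf_dvd_card' 2 hd
  have hx2 : (x : SU 3 F q) * x = 1 := by
    have h3 := pow_orderOf_eq_one x
    rw [hx, pow_two] at h3
    exact congrArg Subtype.val h3
  have hxv : act (x : SU 3 F q) v = v := x.2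
  have h3 := al_mul hF h hxv hxv
  rw [hx2, al, act_one, h.fe, ← two_mul] at h3
  obtain ⟨μ, hμ⟩ := eq_xs hF h hxv ((mul_eq_zero.1 h3.symm).resolve_left h2)
  have h4 : act ((x : SU 3 F q) * (x : SU 3 F q)) f = f := by rw [hx2, act_one]
  rw [hμ, act_mul, act_xs, act_xs, h.fv, herm_add_left, herm_smul_left, h.fv, h.vv, mul_zero, add_zero, mul_one, add_assoc,
    ← two_smul F, smul_smul, add_eq_left] at h4
  have h5 : (μ : F) = 0 := (mul_eq_zero.1 ((smul_eq_zero.1 h4).resolve_right h.ne_zero)).resolve_left h2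
  have h6 : x = 1 := Subtype.ext (hμ.trans (xs_eq_one hF v h.vv h5))
  rw [h6, orderOf_one] at hx
  exact absurd hx (by norm_num)

end Geometry

/-- **A2**: the root groups have no fixed vectors. -/
theorem noFix {F : Type v} [Field F] [Fintype F] {q : ℕ} (hF : Fintype.card F = q ^ 2) {a : ℕ} (ha : q + 1 = 2 ^ a)
    (hq : 2 ≤ q) {k : Type u} [Field k] [IsAlgClosed k] [CharP k 2] {V : Type w} [AddCommGroup V] [Module k V]
    [FiniteDimensional k V] (ρ : SU 3 F q →* End k V)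
    (hirr : ∀ U : Submodule k V, (∀ g, ∀ u ∈ U, ρ g u ∈ U) → U = ⊥ ∨ U = ⊤) (hnt : ∃ g, ρ g ≠ 1)
    (hT : ∀ y : SU 3 F q, orderOf y = 2 ^ (a + 1) → ∑ i ∈ Finset.range (2 ^ (a + 1)), ρ (y ^ i) = 0) : NoFix hF ρ := by
  intro v hv hvv w₀ hw₀
  have hcard : Fintype.card F - 1 = 2 ^ a * (q - 1) := by
    rw [hF, ← ha]
    obtain ⟨r, rfl⟩ := Nat.exists_eq_add_of_le hq
    have : 2 + r - 1 = r + 1 := by omega
    rw [this]
    have h2 : (2 + r) ^ 2 = (2 + r + 1) * (r + 1) + 1 := by ring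
    rw [h2]
    omega
  have ha2 : 2 ≤ a := by
    by_contra hcon
    have h1 : a < 2 := by omega
    have h2 : 2 ^ a ≤ 2 := by interval_cases a <;> norm_num
    omega
  have hqodd : q % 2 = 1 := by
    obtain ⟨b, rfl⟩ : ∃ b, a = b + 1 := ⟨a - 1, by omega⟩
    rw [pow_succ] at ha
    omega
  have h20 : (2 : F) ≠ 0 := by
    intro h2
    have h4 : ringChar F ∣ 2 := (ringChar.spec F 2).1 (by exact_mod_cast h2)
    have h3 : ringChar F = 2 := by
      rcases (Nat.dvd_prime Nat.prime_two).1 h4 with h5 | h5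
      · exact absurd h5 (CharP.ringChar_ne_one)
      · exact h5
    have h5 := FiniteField.even_card_of_char_two h3
    rw [hF, pow_two, Nat.mul_mod, hqodd] at h5
    omega
  obtain ⟨e, f, h⟩ := exists_fr3 hF hv hvv
  obtain ⟨t₀, ht₀, hgen⟩ := exists_gen hF
  obtain ⟨y₀, hy₀, hy₀'⟩ := exists_tor hF h ht₀
  obtain ⟨w, hw, hw'⟩ := exists_w hF h
  obtain ⟨e₀, he₀, hae₀⟩ := al_surj hF h 1
  -- a torus element of order `2 ^ (a + 1)`
  obtain ⟨t, ht⟩ : ∃ t : Fˣ, orderOf t = 2 ^ (a + 1) := by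
    obtain ⟨g, hg⟩ := IsCyclic.exists_ofOrder_eq_natCard (α := Fˣ)
    have h1 : 2 ^ (a + 1) ∣ orderOf g := by
      classical
      rw [hg, Nat.card_eq_fintype_card, Fintype.card_units, hcard, pow_succ]
      exact Nat.mul_dvd_mul_left _ (by omega)
    obtain ⟨m, hm⟩ := h1
    have hm0 : m ≠ 0 := by
      rintro rfl
      rw [mul_zero] at hm
      exact (orderOf_pos g).ne' hm
    refine ⟨g ^ m, ?_⟩
    rw [orderOf_pow_of_dvd hm0 (hm ▸ Dvd.intro_left _ rfl), hm, Nat.mul_div_cancel _ (Nat.pos_of_ne_zero hm0)]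
  obtain ⟨y, hy, hy'⟩ := exists_tor hF h t.ne_zero
  have hyo : orderOf y = 2 ^ (a + 1) := by
    rw [← ht, orderOf_eq_orderOf_iff]
    intro n
    rw [tor_pow hF h hy hy' n, ← Units.val_pow_eq_pow_val, Units.val_eq_one]
  have hQ : ((Nat.card (QV (q := q) v) : ℕ) : k) ≠ 0 := by
    intro h1
    exact odd_QV hF h h20 ((CharP.cast_eq_zero_iff k 2 _).1 h1)
  have hw₀X : ∀ x ∈ XV hF h, ρ x w₀ = w₀ := by
    rintro x ⟨hx, hx'⟩
    obtain ⟨μ, rfl⟩ := eq_xs hF h hx hx'
    exact hw₀ μ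
  refine noFix_abs ρ (Q := QV v) (X := XV hF h) (y := y₀) (w := w) (q := q) (n := a) (e := e₀) (fun x hx => hx.1) hQ ?_ ?_ ?_
    (by omega) ?_ (bruhat hF h ht₀ hgen hy₀ hw) ?_ he₀ ?_ hirr hnt ?_ hw₀X
  · intro x hx
    rw [mem_QV, act_mul, act_mul, act_of_inv ht₀ hy₀, act_smul, mem_QV.1 hx, act_smul, hy₀, smul_smul, inv_mul_cancel₀ ht₀,
      one_smul]
  · intro x hx
    exact (tor_al hF h ht₀ hy₀ hy₀' hx).1
  · rw [tor_pow hF h hy₀ hy₀', ← hcard]
    exact FiniteField.pow_card_sub_one_eq_one t₀ ht₀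
  · -- `y₀ w y₀ ^ q = w`
    apply fix_ext hF h
    · rw [act_mul, act_mul, act_pow_eig hy₀, act_smul, hw, act_smul, hy₀', smul_smul, mul_inv_cancel₀ (pow_ne_zero q ht₀),
        one_smul]
    · rw [act_mul, act_mul, act_pow_eig hy₀', act_smul, hw', act_smul, hy₀, smul_smul, inv_pow, pow_q_pow_q hF,
        inv_mul_cancel₀ ht₀, one_smul]
  · intro x hx hx1
    rcases bruhat hF h ht₀ hgen hy₀ hw (w⁻¹ * x * w) with ⟨i, x', hx', h1⟩ | h1
    · exfalso
      apply hx1
      have h2 : act (w⁻¹ * x * w) v = t₀ ^ i • v := by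
        rw [h1, act_mul, mem_QV.1 hx', act_pow_eig hy₀]
      rw [act_mul, act_mul, hw] at h2
      have h3 : act x f = t₀ ^ i • f := by
        have h4 := congrArg (act w) h2
        rw [act_act_inv, act_smul, hw] at h4
        exact h4
      have h4 : t₀ ^ i = 1 := by
        have h5 : hermForm 3 F q (act x f) (act x v) = 1 := by rw [herm_act, h.fv]
        rw [h3, mem_QV.1 hx, herm_smul_left, h.fv, mul_one] at h5
        exact h5
      rw [h4, one_smul] at h3
      exact fix_one hF h hx h3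
    · exact h1
  · rintro ⟨-, h1⟩
    rw [hae₀] at h1
    exact one_ne_zero h1
  · -- Step 1
    intro w₁ hw₁
    refine fix_of_fix ρ (Q := QV v) (X := XV hF h) (al := al e f) (fun x hx => hx.1)
      (fun a ha b hb => al_mul hF h ha hb) (fun x hx h0 => ⟨hx, h0⟩) (fun x hx => hx.2) (al_surj hF h) hQ
      (fun x hx => tor_al hF h t.ne_zero hy hy' hx) (n := 2 ^ (a + 1)) (by positivity) (by rw [← hyo]; exact pow_orderOf_eq_one y)
      ?_ (hT y hyo) hw₁
    intro i hi0 hin hs
    -- `s = t ^ (1 - 2 q)`, so `t ^ ((2 q - 1) i) = 1`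
    have h1 : ((t : F) ^ (2 * q - 1)) ^ i = 1 := by
      have h2 : (t : F) ^ (2 * q - 1) * ((t : F) * (((t : F) ^ q)⁻¹) ^ 2) = 1 := by
        have h3 : (t : F) ^ (2 * q - 1) * (t : F) = ((t : F) ^ q) ^ 2 := by
          rw [← pow_succ, ← pow_mul]
          congr 1
          omega
        rw [← mul_assoc, h3, ← mul_pow, mul_inv_cancel₀ (pow_ne_zero q t.ne_zero), one_pow]
      have h3 := congrArg (· ^ i) h2
      simp only [mul_pow _ _ i, one_pow] at h3
      rw [mul_pow _ _ i] at hs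
      rw [hs, mul_one] at h3
      exact h3
    rw [← pow_mul, ← Units.val_pow_eq_pow_val, Units.val_eq_one, ← orderOf_dvd_iff_pow_eq_one, ht] at h1
    have h2 : Nat.Coprime (2 ^ (a + 1)) (2 * q - 1) := by
      apply Nat.Coprime.pow_left
      rw [Nat.coprime_comm, Nat.coprime_two_right]
      exact ⟨q - 1, by omega⟩
    exact absurd (Nat.le_of_dvd hi0 (h2.dvd_of_dvd_mul_left h1)) (by omega)

end Cfsg.Agent.H813.CV.M9
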