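import Cfsg.Agent.H377.CV.Rep

/-!
# S3442, M9: the abstract part of `C_V(X) = 0` (helper813)

* `exists_eigc` : common eigenvectors of operators commuting on `U`;
* `fix_of_fix` : a vector fixed by `X` is fixed by `Q` (`Q / X ≅ (F, +)`, `y` acts freely);
* `noFix_abs` : rank one argument: no vector is fixed by `X`.
-/

set_option autoImplicit false
set_option linter.unusedSectionVars false

namespace Cfsg.Agent.H813.CV.M9

open Finset Module Cfsg.Agent.H377.CV

universe u v w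

variable {L : Type v} [Group L] {k : Type u} [Field k] {V : Type w} [AddCommGroup V] [Module k V] (ρ : L →* End k V)

/-- a common eigenvector for operators which commute on `U` -/
theorem exists_eigc [IsAlgClosed k] [FiniteDimensional k V] (Z : Subgroup L)
    (d : ℕ) : ∀ U : Submodule k V, finrank k U = d → U ≠ ⊥ → (∀ z ∈ Z, ∀ u ∈ U, ρ z u ∈ U) →
    (∀ a ∈ Z, ∀ b ∈ Z, ∀ u ∈ U, ρ (a * b) u = ρ (b * a) u) →
    ∃ ψ : Z →* kˣ, ∃ v ∈ U, v ≠ 0 ∧ v ∈ eig ρ Z ψ := by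
  induction d using Nat.strong_induction_on with
  | _ d ih =>
    intro U hd hU hUZ hZ
    obtain ⟨v, hvU, hv⟩ := Submodule.exists_mem_ne_zero_of_ne_bot hU
    by_cases hs : ∀ z ∈ Z, ∃ c : k, ∀ u ∈ U, ρ z u = c • u
    · obtain ⟨ψ, hψ⟩ := exists_char ρ (Z := Z) hv (fun z => by
        obtain ⟨c, hc⟩ := hs z z.2
        exact ⟨c, hc v hvU⟩)
      exact ⟨ψ, v, hvU, hv, hψ⟩
    · push Not at hs
      obtain ⟨z, hz, hns⟩ := hs
      let T : End k U := (ρ z).restrict (hUZ z hz)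
      have hnt : Nontrivial U := (Submodule.nontrivial_iff_ne_bot).2 hU
      obtain ⟨c, hc⟩ := Module.End.exists_eigenvalue T
      obtain ⟨u₀, hu₀⟩ := hc.exists_hasEigenvector
      obtain ⟨u, hu, hne⟩ := hns c
      let U₁ : Submodule k V := U ⊓ LinearMap.ker (ρ z - c • (1 : End k V))
      have hU₁ : ∀ y, y ∈ U₁ ↔ y ∈ U ∧ ρ z y = c • y := by
        intro y
        rw [Submodule.mem_inf, LinearMap.mem_ker, LinearMap.sub_apply, sub_eq_zero]
        rfl
      have hlt : U₁ < U := by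
        refine lt_of_le_of_ne inf_le_left fun h => hne ?_
        rw [← h] at hu
        exact ((hU₁ u).1 hu).2
      have h1 : U₁ ≠ ⊥ := by
        intro h
        have h2 : (u₀ : V) ∈ U₁ := by
          rw [hU₁]
          refine ⟨u₀.2, ?_⟩
          have h3 := congrArg Subtype.val hu₀.apply_eq_smul
          exact h3
        rw [h, Submodule.mem_bot] at h2
        exact hu₀.2 (Subtype.ext h2)
      obtain ⟨ψ, w, hw, hw0, hwe⟩ := ih (finrank k U₁) (hd ▸ Submodule.finrank_lt_finrank_of_lt hlt) U₁ rfl h1 (by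
        intro y hy w hw
        rw [hU₁] at hw ⊢
        refine ⟨hUZ y hy w hw.1, ?_⟩
        rw [← rmul, hZ z hz y hy w hw.1, rmul, hw.2, map_smul]) (fun a ha b hb w hw => hZ a ha b hb w ((hU₁ w).1 hw).1)
      exact ⟨ψ, w, ((hU₁ w).1 hw).1, hw0, hwe⟩

/-- **Step 1**: `C_V(X) = C_V(Q)` -/
theorem fix_of_fix [Finite L] [IsAlgClosed k] [FiniteDimensional k V] {F : Type*} [Field F] {Q X : Subgroup L} {al : L → F}
    (hXQ : X ≤ Q) (hal : ∀ a ∈ Q, ∀ b ∈ Q, al (a * b) = al a + al b) (hker : ∀ x ∈ Q, al x = 0 → x ∈ X)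
    (hal0 : ∀ x ∈ X, al x = 0)
    (hsur : ∀ a : F, ∃ x ∈ Q, al x = a) (hQ : (Nat.card Q : k) ≠ 0) {y : L} {s : F}
    (hy : ∀ x ∈ Q, y⁻¹ * x * y ∈ Q ∧ al (y⁻¹ * x * y) = s * al x) {n : ℕ} (hn0 : 0 < n) (hyn : y ^ n = 1)
    (hs : ∀ i, 0 < i → i < n → s ^ i ≠ 1) (h0 : ∑ i ∈ range n, ρ (y ^ i) = 0) {w₀ : V} (hw₀ : ∀ x ∈ X, ρ x w₀ = w₀) :
    ∀ x ∈ Q, ρ x w₀ = w₀ := by
  have halone : al 1 = 0 := by
    have := hal 1 Q.one_mem 1 Q.one_mem
    rw [mul_one] at this
    exact (add_eq_left.1 this.symm)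
  have halinv : ∀ x ∈ Q, al x⁻¹ = - al x := by
    intro x hx
    have := hal x hx x⁻¹ (Q.inv_mem hx)
    rw [mul_inv_cancel, halone] at this
    exact (neg_eq_of_add_eq_zero_right this.symm).symm
  -- `C_V(X)`
  let U : Submodule k V :=
    { carrier := {u | ∀ x ∈ X, ρ x u = u}
      add_mem' := fun {a b} ha hb x hx => by rw [map_add, ha x hx, hb x hx]
      zero_mem' := fun x _ => map_zero _
      smul_mem' := fun c u hu x hx => by rw [map_smul, hu x hx] }
  have hU : ∀ u, u ∈ U ↔ ∀ x ∈ X, ρ x u = u := fun u => Iff.rfl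
  have hcom : ∀ a ∈ Q, ∀ b ∈ Q, ∀ u ∈ U, ρ (a * b) u = ρ (b * a) u := by
    intro a ha b hb u hu
    have h1 : (b * a)⁻¹ * (a * b) ∈ X := by
      apply hker _ (Q.mul_mem (Q.inv_mem (Q.mul_mem hb ha)) (Q.mul_mem ha hb))
      rw [hal _ (Q.inv_mem (Q.mul_mem hb ha)) _ (Q.mul_mem ha hb), halinv _ (Q.mul_mem hb ha), hal _ hb _ ha, hal _ ha _ hb]
      ring
    have h2 : a * b = (b * a) * ((b * a)⁻¹ * (a * b)) := by group
    rw [h2, rmul, (hU u).1 hu _ h1]
  have hnorm : ∀ a ∈ Q, ∀ x ∈ X, a⁻¹ * x * a ∈ X := by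
    intro a ha x hx
    apply hker _ (Q.mul_mem (Q.mul_mem (Q.inv_mem ha) (hXQ hx)) ha)
    rw [hal _ (Q.mul_mem (Q.inv_mem ha) (hXQ hx)) _ ha, hal _ (Q.inv_mem ha) _ (hXQ hx), halinv _ ha, hal0 x hx]
    ring
  have hUQ : ∀ a ∈ Q, ∀ u ∈ U, ρ a u ∈ U := by
    intro a ha u hu x hx
    rw [← rmul]
    have h2 : x * a = a * (a⁻¹ * x * a) := by group
    rw [h2, rmul, (hU u).1 hu _ (hnorm a ha x hx)]
  intro e he
  by_contra hne
  -- the image of `ρ e - 1` on `U`
  let U' : Submodule k V := U.map (ρ e - 1)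
  have hU'U : ∀ u ∈ U', u ∈ U := by
    rintro _ ⟨u, hu, rfl⟩
    rw [LinearMap.sub_apply, Module.End.one_apply]
    exact U.sub_mem (hUQ e he u hu) hu
  have hU'0 : U' ≠ ⊥ := by
    intro h
    apply hne
    have h1 : (ρ e - 1) w₀ ∈ U' := ⟨w₀, (hU w₀).2 hw₀, rfl⟩
    rw [h, Submodule.mem_bot, LinearMap.sub_apply, sub_eq_zero] at h1
    exact h1
  obtain ⟨ψ, v, hvU, hv, hve⟩ := exists_eigc ρ Q _ U' rfl hU'0 (by
    rintro z hz _ ⟨u, hu, rfl⟩
    refine ⟨ρ z u, hUQ z hz u hu, ?_⟩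
    rw [LinearMap.sub_apply, LinearMap.sub_apply, Module.End.one_apply, Module.End.one_apply, map_sub, ← rmul, ← rmul,
      hcom e he z hz u hu]) (fun a ha b hb u hu => hcom a ha b hb u (hU'U u hu))
  have hψX : ∀ x : Q, (x : L) ∈ X → ψ x = 1 := by
    intro x hx
    have h1 := hve x
    rw [(hU v).1 (hU'U v hvU) x hx] at h1
    have h2 : ((ψ x : k) - 1) • v = 0 := by rw [sub_smul, one_smul, ← h1, sub_self]
    exact Units.ext (sub_eq_zero.1 ((smul_eq_zero.1 h2).resolve_right hv))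
  -- `ψ e ≠ 1`
  have hψe : ψ ⟨e, he⟩ ≠ 1 := by
    intro h1
    obtain ⟨u, hu, rfl⟩ := hvU
    apply hv
    have h2 : ∀ i : ℕ, (ρ e ^ i) ((ρ e - 1) u) = (ρ e - 1) u := by
      intro i
      have h3 := hve ⟨e, he⟩
      rw [h1, Units.val_one, one_smul] at h3
      induction i with
      | zero => rfl
      | succ i ihi => rw [pow_succ, Module.End.mul_apply, h3, ihi]
    have h4 : ∑ i ∈ range (Nat.card Q), (ρ e ^ i) ((ρ e - 1) u) = 0 := by
      have h5 : (∑ i ∈ range (Nat.card Q), ρ e ^ i) * (ρ e - 1) = 0 := by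
        rw [geom_sum_mul, ← map_pow]
        have h6 : e ^ Nat.card Q = 1 := congrArg Subtype.val (pow_card_eq_one' (x := (⟨e, he⟩ : Q)))
        rw [h6, map_one, sub_self]
      have h6 := congrArg (fun f : End k V => f u) h5
      rw [← LinearMap.sum_apply]
      exact h6
    rw [Finset.sum_congr rfl (fun i _ => h2 i), Finset.sum_const, Finset.card_range, ← Nat.cast_smul_eq_nsmul k] at h4
    exact (smul_eq_zero.1 h4).resolve_left hQ
  -- the conjugates
  have hyi : ∀ i : ℕ, ∀ x ∈ Q, (y ^ i)⁻¹ * x * y ^ i ∈ Q ∧ al ((y ^ i)⁻¹ * x * y ^ i) = s ^ i * al x := by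
    intro i
    induction i with
    | zero => intro x hx; simpa using hx
    | succ i ih =>
      intro x hx
      obtain ⟨h1, h2⟩ := ih x hx
      obtain ⟨h3, h4⟩ := hy _ h1
      have h5 : (y ^ (i + 1))⁻¹ * x * y ^ (i + 1) = y⁻¹ * ((y ^ i)⁻¹ * x * y ^ i) * y := by
        rw [pow_succ]; group
      rw [h5]
      exact ⟨h3, by rw [h4, h2, pow_succ]; ring⟩
  have h1 := norm_eig ρ (ψ := ψ) hQ (x := y) (fun z hz => (hy z hz).1) (n := n) (m := 1) hn0
    (by
      intro i hi0 hin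
      by_contra hcon
      push Not at hcon
      -- choose `z` with `(s ^ i - 1) al z = al e`
      obtain ⟨z, hz, haz⟩ := hsur ((s ^ i - 1)⁻¹ * al e)
      obtain ⟨h2, h3⟩ := hyi i z hz
      have h4 := hcon ⟨z, hz⟩ ⟨_, h2⟩ rfl
      have h5 : e⁻¹ * ((y ^ i)⁻¹ * z * y ^ i * z⁻¹) ∈ X := by
        apply hker _ (Q.mul_mem (Q.inv_mem he) (Q.mul_mem h2 (Q.inv_mem hz)))
        rw [hal _ (Q.inv_mem he) _ (Q.mul_mem h2 (Q.inv_mem hz)), hal _ h2 _ (Q.inv_mem hz), halinv _ he, halinv _ hz, h3, haz]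
        have h6 : s ^ i - 1 ≠ 0 := sub_ne_zero.2 (hs i hi0 hin)
        field_simp
        ring
      have h6 := hψX ⟨_, Q.mul_mem (Q.inv_mem he) (Q.mul_mem h2 (Q.inv_mem hz))⟩ h5
      have h7 : (⟨_, Q.mul_mem (Q.inv_mem he) (Q.mul_mem h2 (Q.inv_mem hz))⟩ : Q) =
          (⟨e, he⟩ : Q)⁻¹ * (⟨_, h2⟩ * (⟨z, hz⟩ : Q)⁻¹) := rfl
      rw [h7, map_mul, map_mul, map_inv, map_inv, h4, mul_inv_cancel, mul_one, inv_eq_one] at h6
      exact hψe h6)
    (by
      intro z z' hz'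
      rw [hyn, inv_one, one_mul, mul_one] at hz'
      rw [Subtype.ext hz'])
    (by rw [mul_one]; exact h0) v hve
  rw [Finset.sum_range_one, pow_zero, rone] at h1
  exact hv h1

/-- in characteristic two `c ^ (2 ^ n) = 1` implies `c = 1` -/
theorem eq_one_of_pow [CharP k 2] {c : k} {n : ℕ} (h : c ^ 2 ^ n = 1) : c = 1 := by
  have h1 : (c - 1) ^ 2 ^ n = 0 := by rw [sub_pow_char_pow, one_pow, h, sub_self]
  exact sub_eq_zero.1 (pow_eq_zero_iff (by positivity) |>.1 h1)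

/-- **Step 2**, abstract form -/
theorem noFix_abs [Finite L] [IsAlgClosed k] [CharP k 2] [FiniteDimensional k V] {Q X : Subgroup L} {y w : L} {q n : ℕ}
    (hXQ : X ≤ Q) (hQ : (Nat.card Q : k) ≠ 0) (hyQ : ∀ x ∈ Q, y * x * y⁻¹ ∈ Q) (hyQ' : ∀ x ∈ Q, y⁻¹ * x * y ∈ Q)
    (hyn : y ^ (2 ^ n * (q - 1)) = 1) (hq : 1 ≤ q) (hw : y * w * y ^ q = w)
    (hB : ∀ g : L, (∃ i : ℕ, ∃ x ∈ Q, g = y ^ i * x) ∨ ∃ x ∈ Q, ∃ i : ℕ, ∃ x' ∈ Q, g = x * w * (y ^ i * x'))
    (hwx : ∀ x ∈ Q, x ≠ 1 → ∃ x₁ ∈ Q, ∃ i : ℕ, ∃ x₂ ∈ Q, w⁻¹ * x * w = x₁ * w * (y ^ i * x₂))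
    {e : L} (he : e ∈ Q) (heX : e ∉ X)
    (hirr : ∀ U : Submodule k V, (∀ g, ∀ u ∈ U, ρ g u ∈ U) → U = ⊥ ∨ U = ⊤) (hnt : ∃ g, ρ g ≠ 1)
    (h1 : ∀ w₀ : V, (∀ x ∈ X, ρ x w₀ = w₀) → ∀ x ∈ Q, ρ x w₀ = w₀)
    {w₀ : V} (hw₀ : ∀ x ∈ X, ρ x w₀ = w₀) : w₀ = 0 := by
  classical
  by_contra hne
  let _ : Fintype Q := Fintype.ofFinite Q
  let _ : Fintype X := Fintype.ofFinite X
  -- the fixed space `M` of `Q`
  let M : Submodule k V :=
    { carrier := {u | ∀ x ∈ Q, ρ x u = u}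
      add_mem' := fun {a b} ha hb x hx => by rw [map_add, ha x hx, hb x hx]
      zero_mem' := fun x _ => map_zero _
      smul_mem' := fun c u hu x hx => by rw [map_smul, hu x hx] }
  have hM : ∀ u, u ∈ M ↔ ∀ x ∈ Q, ρ x u = u := fun u => Iff.rfl
  have hyM : ∀ u ∈ M, ρ y u ∈ M := by
    intro u hu x hx
    rw [← rmul]
    have h2 : x * y = y * (y⁻¹ * x * y) := by group
    rw [h2, rmul, (hM u).1 hu _ (hyQ' x hx)]
  have hMnt : Nontrivial M := ⟨⟨w₀, (hM w₀).2 (h1 w₀ hw₀)⟩, 0, fun h => hne (congrArg Subtype.val h)⟩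
  let A : End k M := (ρ y).restrict hyM
  obtain ⟨c, hc⟩ := Module.End.exists_eigenvalue A
  obtain ⟨u', hu'⟩ := hc.exists_hasEigenvector
  obtain ⟨u, hu⟩ : ∃ u : V, u = u' := ⟨_, rfl⟩
  have huM : u ∈ M := hu ▸ u'.2
  have hu0 : u ≠ 0 := fun h => hu'.2 (Subtype.ext (hu ▸ h))
  have hyu : ρ y u = c • u := by
    rw [hu]
    exact congrArg Subtype.val hu'.apply_eq_smul
  -- the functional on `M`
  obtain ⟨l₀, hl₀, hl₁⟩ : ∃ l₀ : M →ₗ[k] k, l₀ ≠ 0 ∧ ∀ z, l₀ (A z) = c * l₀ z := by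
    have h2 : ¬ Function.Surjective (A - c • (1 : End k M)) := by
      intro h3
      have h4 := LinearMap.injective_iff_surjective.2 h3
      have h5 : (A - c • (1 : End k M)) u' = 0 := by
        rw [LinearMap.sub_apply, hu'.apply_eq_smul, LinearMap.smul_apply, Module.End.one_apply, sub_self]
      exact hu'.2 (h4 (h5.trans (map_zero _).symm))
    have h3 : LinearMap.range (A - c • (1 : End k M)) < ⊤ := lt_top_iff_ne_top.2 fun h => h2 (LinearMap.range_eq_top.1 h)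
    obtain ⟨f, hf, hf'⟩ := Submodule.exists_le_ker_of_lt_top _ h3
    refine ⟨f, hf, fun z => ?_⟩
    have h4 := hf' ⟨z, rfl⟩
    rw [LinearMap.mem_ker, LinearMap.sub_apply, LinearMap.smul_apply, Module.End.one_apply, map_sub, map_smul, sub_eq_zero,
      smul_eq_mul] at h4
    exact h4
  -- the projection onto `M`
  let E : V →ₗ[k] M := LinearMap.codRestrict M (∑ x : Q, ρ x) (by
    intro z x hx
    rw [LinearMap.sum_apply, map_sum]
    conv_rhs => rw [← Equiv.sum_comp (Equiv.mulLeft (⟨x, hx⟩ : Q))]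
    refine Finset.sum_congr rfl fun t _ => ?_
    rw [← rmul]
    rfl)
  have hE : ∀ z, ((E z : M) : V) = ∑ x : Q, ρ x z := fun z => by
    rw [← LinearMap.sum_apply]
    rfl
  have hEM : ∀ z : M, E z = (Nat.card Q : k) • z := by
    intro z
    apply Subtype.ext
    rw [hE, Finset.sum_congr rfl (fun (x : Q) _ => (hM z).1 z.2 x x.2), Finset.sum_const, Finset.card_univ,
      ← Nat.card_eq_fintype_card, Submodule.coe_smul, Nat.cast_smul_eq_nsmul]
  let l : V →ₗ[k] k := l₀ ∘ₗ E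
  have hl0 : l ≠ 0 := by
    intro h
    apply hl₀
    apply LinearMap.ext
    intro z
    have h2 := LinearMap.congr_fun h (z : V)
    rw [LinearMap.comp_apply, hEM, map_smul, LinearMap.zero_apply] at h2
    exact (smul_eq_zero.1 h2).resolve_left hQ
  have hlQ : ∀ x ∈ Q, ∀ z, l (ρ x z) = l z := by
    intro x hx z
    rw [LinearMap.comp_apply, LinearMap.comp_apply]
    congr 1
    apply Subtype.ext
    rw [hE, hE]
    conv_rhs => rw [← Equiv.sum_comp (Equiv.mulRight (⟨x, hx⟩ : Q))]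
    refine Finset.sum_congr rfl fun t _ => ?_
    rw [← rmul]
    rfl
  have hly : ∀ z, l (ρ y z) = c * l z := by
    intro z
    rw [LinearMap.comp_apply, LinearMap.comp_apply, ← hl₁]
    congr 1
    apply Subtype.ext
    have h2 : ((A (E z) : M) : V) = ρ y (E z : V) := rfl
    rw [h2, hE, hE, map_sum]
    let t : Q ≃ Q :=
      { toFun := fun x => ⟨y * x * y⁻¹, hyQ x x.2⟩
        invFun := fun x => ⟨y⁻¹ * x * y, hyQ' x x.2⟩
        left_inv := fun x => Subtype.ext (by simp only; group)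
        right_inv := fun x => Subtype.ext (by simp only; group) }
    rw [← Equiv.sum_comp t]
    refine Finset.sum_congr rfl fun x _ => ?_
    rw [← rmul, ← rmul]
    have h3 : ((t x : Q) : L) * y = y * x := by
      change y * x * y⁻¹ * y = y * x
      group
    rw [h3]
  -- the matrix coefficient
  have hlyi : ∀ (i : ℕ) z, l (ρ (y ^ i) z) = c ^ i * l z := by
    intro i
    induction i with
    | zero => intro z; rw [pow_zero, rone, pow_zero, one_mul]
    | succ i ih => intro z; rw [pow_succ, rmul, ih, hly, pow_succ, mul_assoc]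
  have hyiu : ∀ i : ℕ, ρ (y ^ i) u = c ^ i • u := by
    intro i
    induction i with
    | zero => rw [pow_zero, rone, pow_zero, one_smul]
    | succ i ih => rw [pow_succ, rmul, hyu, map_smul, ih, smul_smul, pow_succ, mul_comm]
  obtain ⟨m, hm⟩ : ∃ m : L → k, ∀ g, m g = l (ρ g u) := ⟨fun g => l (ρ g u), fun g => rfl⟩
  have hmB : ∀ (g : L) (i : ℕ), ∀ x ∈ Q, m (g * (y ^ i * x)) = c ^ i * m g := by
    intro g i x hx
    rw [hm, hm, rmul, rmul, (hM u).1 huM x hx, hyiu, map_smul, map_smul, smul_eq_mul]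
  have hmQ : ∀ (g : L), ∀ x ∈ Q, m (x * g) = m g := by
    intro g x hx
    rw [hm, hm, rmul, hlQ x hx]
  have hmy : ∀ g : L, m (y * g) = c * m g := by
    intro g
    rw [hm, hm, rmul, hly]
  have hmyr : ∀ (g : L) (i : ℕ), m (g * y ^ i) = c ^ i * m g := by
    intro g i
    have := hmB g i 1 Q.one_mem
    rwa [mul_one] at this
  have hmne : ∃ g, m g ≠ 0 := by
    by_contra hcon
    push Not at hcon
    let U : Submodule k V :=
      { carrier := {z | ∀ g, l (ρ g z) = 0}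
        add_mem' := fun {a b} ha hb g => by rw [map_add, map_add, ha g, hb g, add_zero]
        zero_mem' := fun g => by rw [map_zero, map_zero]
        smul_mem' := fun c z hz g => by rw [map_smul, map_smul, hz g, smul_zero] }
    have hUu : u ∈ U := fun g => by rw [← hm]; exact hcon g
    rcases hirr U (fun g z hz h => by rw [← rmul]; exact hz _) with h | h
    · rw [h, Submodule.mem_bot] at hUu
      exact hu0 hUu
    · apply hl0
      apply LinearMap.ext
      intro z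
      have h2 : z ∈ U := h ▸ Submodule.mem_top
      have h3 := h2 1
      rw [rone] at h3
      exact h3
  -- `c ^ (q - 1) = 1`
  have hcq : c ^ (q - 1) = 1 := by
    apply eq_one_of_pow (n := n)
    rw [← pow_mul, mul_comm (q - 1)]
    have h2 := hyiu (2 ^ n * (q - 1))
    rw [hyn, rone] at h2
    have h3 : (c ^ (2 ^ n * (q - 1)) - 1) • u = 0 := by rw [sub_smul, one_smul, ← h2, sub_self]
    exact sub_eq_zero.1 ((smul_eq_zero.1 h3).resolve_right hu0)
  have hcq' : c * c ^ q = c ^ 2 := by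
    have h2 : q = (q - 1) + 1 := by omega
    rw [h2, pow_succ, hcq]
    ring
  have hmw : m w = 0 ∨ c = 1 := by
    have h2 : m w = c ^ 2 * m w := by
      conv_lhs => rw [← hw, hmyr, hmy, ← mul_assoc, mul_comm (c ^ q), hcq']
    by_cases h3 : m w = 0
    · exact Or.inl h3
    · right
      have h4 : c ^ 2 = 1 := by
        have h5 : (c ^ 2 - 1) * m w = 0 := by rw [sub_mul, one_mul, ← h2, sub_self]
        exact sub_eq_zero.1 ((mul_eq_zero.1 h5).resolve_right h3)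
      exact eq_one_of_pow (n := 1) (by rw [pow_one]; exact h4)
  have hmnB : ∀ x ∈ Q, x ≠ 1 → m (w⁻¹ * x * w) = m w := by
    intro x hx hx1
    obtain ⟨x₁, hx₁, i, x₂, hx₂, h2⟩ := hwx x hx hx1
    rw [h2, hmB _ i x₂ hx₂, hmQ _ x₁ hx₁]
    rcases hmw with h3 | h3
    · rw [h3, mul_zero]
    · rw [h3, one_pow, one_mul]
  -- the relation from the vector `∑ x ∈ X, ρ (x w) u`
  have hrel : ∑ x : X, m (w⁻¹ * (e * x) * w) = ∑ x : X, m (w⁻¹ * x * w) := by
    obtain ⟨z, hz⟩ : ∃ z : V, z = ∑ x : X, ρ ((x : L) * w) u := ⟨_, rfl⟩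
    have hzX : ∀ x ∈ X, ρ x z = z := by
      intro x hx
      rw [hz, map_sum]
      conv_rhs => rw [← Equiv.sum_comp (Equiv.mulLeft (⟨x, hx⟩ : X))]
      refine Finset.sum_congr rfl fun t _ => ?_
      rw [← rmul, ← mul_assoc]
      rfl
    have h2 := h1 z hzX e he
    have h3 := congrArg (fun v => l (ρ w⁻¹ v)) h2
    rw [hz, map_sum, map_sum, map_sum, map_sum, map_sum] at h3
    have h4 : ∀ x : X, l (ρ w⁻¹ (ρ e (ρ ((x : L) * w) u))) = m (w⁻¹ * (e * x) * w) := by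
      intro x
      rw [hm, ← rmul, ← rmul]
      congr 3
      group
    have h5 : ∀ x : X, l (ρ w⁻¹ (ρ ((x : L) * w) u)) = m (w⁻¹ * x * w) := by
      intro x
      rw [hm, ← rmul]
      congr 3
      group
    rw [Finset.sum_congr rfl (fun x _ => h4 x), Finset.sum_congr rfl (fun x _ => h5 x)] at h3
    exact h3
  have hrel' : m 1 = m w := by
    have h2 : ∀ x : X, m (w⁻¹ * (e * x) * w) = m w := by
      intro x
      apply hmnB _ (Q.mul_mem he (hXQ x.2))
      intro h3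
      apply heX
      rw [eq_inv_of_mul_eq_one_left h3]
      exact X.inv_mem x.2
    have h3 : ∀ x : X, x ≠ 1 → m (w⁻¹ * x * w) = m w := fun x hx =>
      hmnB _ (hXQ x.2) (fun h => hx (Subtype.ext h))
    rw [Finset.sum_congr rfl (fun x _ => h2 x), ← Finset.add_sum_erase _ _ (Finset.mem_univ (1 : X)),
      ← Finset.add_sum_erase _ (fun x : X => m (w⁻¹ * x * w)) (Finset.mem_univ (1 : X)),
      Finset.sum_congr rfl (fun x hx => h3 x (Finset.ne_of_mem_erase hx))] at hrel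
    have h4 := add_right_cancel hrel
    rw [Subgroup.coe_one, mul_one, inv_mul_cancel] at h4
    exact h4.symm
  have hm1 : m 1 ≠ 0 := by
    intro h2
    obtain ⟨g, hg⟩ := hmne
    apply hg
    rcases hB g with ⟨i, x, hx, rfl⟩ | ⟨x, hx, i, x', hx', rfl⟩
    · have h3 := hmB 1 i x hx
      rw [one_mul] at h3
      rw [h3, h2, mul_zero]
    · rw [hmB _ i x' hx', hmQ _ x hx, ← hrel', h2, mul_zero]
  have hc1 : c = 1 := hmw.resolve_left (hrel' ▸ hm1)
  have hmc : ∀ g, m g = m 1 := by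
    intro g
    rcases hB g with ⟨i, x, hx, rfl⟩ | ⟨x, hx, i, x', hx', rfl⟩
    · have h3 := hmB 1 i x hx
      rw [one_mul, hc1, one_pow, one_mul] at h3
      exact h3
    · rw [hmB _ i x' hx', hmQ _ x hx, hc1, one_pow, one_mul, hrel']
  -- `l` is invariant
  have hinv : ∀ g z, l (ρ g z) = l z := by
    let U : Submodule k V :=
      { carrier := {z | ∀ g h, l (ρ g (ρ h z)) = l (ρ h z)}
        add_mem' := fun {a b} ha hb g h => by rw [map_add, map_add, map_add, map_add, ha g, hb g]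
        zero_mem' := fun g h => by rw [map_zero, map_zero]
        smul_mem' := fun c z hz g h => by rw [map_smul, map_smul, map_smul, map_smul, hz g] }
    have hUu : u ∈ U := fun g h => by rw [← rmul, ← hm, ← hm, hmc (g * h), hmc h]
    rcases hirr U (fun g z hz g' h => by rw [← rmul ρ h, hz g' (h * g)]) with h | h
    · rw [h, Submodule.mem_bot] at hUu
      exact absurd hUu hu0
    · intro g z
      have h2 : z ∈ U := h ▸ Submodule.mem_top
      have h3 := h2 g 1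
      rw [rone] at h3
      exact h3
  rcases hirr (LinearMap.ker l) (fun g z hz => by
    rw [LinearMap.mem_ker] at hz ⊢
    rw [hinv, hz]) with h | h
  · obtain ⟨g, hg⟩ := hnt
    apply hg
    apply LinearMap.ext
    intro z
    have h2 : ρ g z - z ∈ LinearMap.ker l := by
      rw [LinearMap.mem_ker, map_sub, hinv, sub_self]
    rw [h, Submodule.mem_bot, sub_eq_zero] at h2
    exact h2
  · exact hl0 (LinearMap.ker_eq_top.1 h)

end Cfsg.Agent.H813.CV.M9
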