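import Cfsg.Agent.H813.CV.ConsU
import Cfsg.Agent.H813.CV.ExpU
import Cfsg.Agent.H813.CV.FreeU
import Cfsg.Agent.H357.CV.Tool
import Cfsg.Agent.S0283

/-!
# S3442, X4': `PSU_n(q)`, `n` odd, `r = 3 ∣ q + 1`, `3 ∤ n` (helper813)
-/

set_option autoImplicit false
set_option linter.unusedSectionVars false

namespace Cfsg.Agent.H813.CV

open Cfsg Cfsg.Agent.LieClassical.HermBasic Cfsg.Agent.LieClassical.HermSiegel Cfsg.Agent.LieClassical.SUBasic
open Cfsg.Agent.H373.CV Finset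

universe u v

section

variable {F : Type v} [Field F] [Fintype F] {n q j ρ a : ℕ} (e : Ix (3 ^ j) ρ ≃ Fin n) {α : F}

theorem odd_three_pow (j : ℕ) : Odd (3 ^ j) := Odd.pow (by decide)

/-- the element -/
noncomputable def cc (hα : α ^ (q + 1) = 1) : SU n F q := cE e (odd_three_pow j) hα

variable (hα : α ^ (q + 1) = 1) (ho : orderOf α = 3 ^ a) (ha : 1 ≤ a) (hj : 1 ≤ j)

theorem mul_pow_q_eq_one {α : F} {q : ℕ} (hα : α ^ (q + 1) = 1) : α * α ^ q = 1 := by rw [← pow_succ', hα]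

include ho in
theorem cc_pow : cc e hα ^ (3 ^ (a + j)) = 1 := by
  have h1 : α ^ 3 ^ a = 1 := by rw [← ho, pow_orderOf_eq_one]
  have h2 : (3 : ℕ) ^ (a + j) = 3 ^ j * 3 ^ a := by rw [pow_add, mul_comm]
  apply ext_act
  intro v
  rw [act_one]
  apply ext_e e
  rintro (i | x | i)
  · rw [cc, act_inl, h2, mul_comm (3 ^ j), pow_mul, h1, one_pow, one_mul]
  · rw [cc, h2, act_blk_bk, inv_pow, ← pow_mul, mul_comm 2, pow_mul, h1, one_pow, inv_one, one_mul]
  · rw [cc, act_rest]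

/-- the twisted action -/
noncomputable def gam (w : Fin n → F) : Fin n → F := α ^ q • act (cc e hα) w

theorem gam_iter (i : ℕ) (w : Fin n → F) : (gam e hα)^[i] w = (α ^ i) ^ q • act (cc e hα ^ i) w := by
  induction i with
  | zero => rw [pow_zero, pow_zero, one_pow, one_smul, act_one]; rfl
  | succ i ih =>
    rw [Function.iterate_succ_apply', ih, gam, act_smul, smul_smul, ← act_mul, ← pow_succ', ← mul_pow, ← pow_succ']

include ho ha hj in
/-- **semiregularity on the block** -/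
theorem semi {w : Fin n → F} (hw : w ∈ SB (F := F) e) (hw0 : w ≠ 0) {i : ℕ} (hi : 0 < i) (him : i < 3 ^ (a + j)) :
    (α ^ i) ^ q • act (cc e hα ^ i) w ≠ w := by
  intro h
  have hα0 : α ≠ 0 := by
    rintro rfl
    rw [zero_pow (by omega)] at hα
    exact zero_ne_one hα
  have h1 : Function.IsPeriodicPt (gam e hα) i w := by
    change (gam e hα)^[i] w = w
    rw [gam_iter]; exact h
  have hα1 : α ^ 3 ^ (a + j) = 1 := by rw [pow_add, pow_mul, ← ho, pow_orderOf_eq_one, one_pow]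
  have h2 : Function.IsPeriodicPt (gam e hα) (3 ^ (a + j)) w := by
    change (gam e hα)^[3 ^ (a + j)] w = w
    rw [gam_iter, cc_pow e hα ho, act_one, hα1, one_pow, one_smul]
  set p := Function.minimalPeriod (gam e hα) w with hp
  have hpi : p ∣ i := h1.minimalPeriod_dvd
  have hpm : p ∣ 3 ^ (a + j) := h2.minimalPeriod_dvd
  obtain ⟨k, hk, hpk⟩ := (Nat.dvd_prime_pow Nat.prime_three).1 hpm
  have hpi' := Nat.le_of_dvd hi hpi
  have hk' : k ≤ a + j - 1 := by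
    by_contra hcon
    have h3 : k = a + j := by omega
    rw [hpk, h3] at hpi'
    omega
  have h3 : p ∣ 3 ^ (a + j - 1) := by rw [hpk]; exact pow_dvd_pow 3 hk'
  have h4 : Function.IsPeriodicPt (gam e hα) (3 ^ (a + j - 1)) w := (Function.isPeriodicPt_minimalPeriod _ _).trans_dvd h3
  have h5 : (gam e hα)^[3 ^ (a + j - 1)] w = w := h4
  rw [gam_iter] at h5
  -- a nonzero coordinate
  obtain ⟨x, hx⟩ : ∃ x : ZMod (3 ^ j), w (e (Sum.inr (Sum.inl x))) ≠ 0 := by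
    by_contra hcon
    push Not at hcon
    apply hw0
    apply ext_e e
    rintro (i | x | i)
    · exact hw.1 i
    · exact hcon x
    · exact hw.2 i
  have h6 := congrFun h5 (e (Sum.inr (Sum.inl x)))
  have h7 : (3 : ℕ) ^ (a + j - 1) = 3 ^ j * 3 ^ (a - 1) := by rw [← pow_add]; congr 1; omega
  rw [Pi.smul_apply, smul_eq_mul, cc, h7, act_blk_bk, ← mul_assoc] at h6
  have h8 : (α ^ (3 ^ j * 3 ^ (a - 1))) ^ q * (α ^ 2)⁻¹ ^ 3 ^ (a - 1) = 1 := mul_right_cancel₀ hx (by rw [h6, one_mul])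
  -- `α ^ ((3 ^ j + 2) 3 ^ (a - 1)) = 1`
  have h9 : α ^ ((3 ^ j + 2) * 3 ^ (a - 1)) = 1 := by
    have e1 : α ^ (3 ^ j * 3 ^ (a - 1)) * (α ^ (3 ^ j * 3 ^ (a - 1))) ^ q = 1 := by
      rw [← pow_succ', ← pow_mul, mul_comm, pow_mul, hα, one_pow]
    have e2 : (α ^ 2) ^ 3 ^ (a - 1) * (α ^ 2)⁻¹ ^ 3 ^ (a - 1) = 1 := by
      rw [← mul_pow, mul_inv_cancel₀ (pow_ne_zero _ hα0), one_pow]
    have e3 : α ^ ((3 ^ j + 2) * 3 ^ (a - 1)) = α ^ (3 ^ j * 3 ^ (a - 1)) * (α ^ 2) ^ 3 ^ (a - 1) := by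
      rw [← pow_mul α 2, ← pow_add]
      congr 1
      ring
    rw [e3]
    linear_combination (α ^ (3 ^ j * 3 ^ (a - 1)) * (α ^ 2) ^ 3 ^ (a - 1)) * (-h8) +
      (α ^ 2) ^ 3 ^ (a - 1) * (α ^ 2)⁻¹ ^ 3 ^ (a - 1) * e1 + e2
  have h10 := orderOf_dvd_of_pow_eq_one h9
  rw [ho] at h10
  obtain ⟨a', rfl⟩ : ∃ a', a = a' + 1 := ⟨a - 1, by omega⟩
  rw [Nat.add_sub_cancel, pow_succ, mul_comm (3 ^ a')] at h10
  have h11 : 3 ∣ 3 ^ j + 2 := Nat.dvd_of_mul_dvd_mul_right (by positivity) h10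
  have h12 : 3 ∣ 3 ^ j := dvd_pow_self 3 (by omega)
  have h13 := (Nat.dvd_add_right h12).1 h11
  norm_num at h13

theorem exists_mem_SB : ∃ w ∈ SB (F := F) e, w ≠ 0 := by
  refine ⟨Pi.single (e (Sum.inr (Sum.inl 0))) 1, ⟨fun i => by simp, fun i => by simp⟩, ?_⟩
  intro h
  have := congrFun h (e (Sum.inr (Sum.inl 0)))
  simp at this

include ho ha hj in
theorem orderOf_cc : orderOf (cc e hα) = 3 ^ (a + j) := by
  have := Fact.mk Nat.prime_three
  obtain ⟨w, hw, hw0⟩ := exists_mem_SB (F := F) e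
  obtain ⟨k, hk⟩ : ∃ k, a + j = k + 1 := ⟨a + j - 1, by omega⟩
  rw [hk]
  refine orderOf_eq_prime_pow ?_ ?_
  · intro h
    have h1 : (3 : ℕ) ^ k < 3 ^ (a + j) := Nat.pow_lt_pow_right (by norm_num) (by omega)
    have h2 := semi e hα ho ha hj hw hw0 (i := 3 ^ k) (by positivity) h1
    apply h2
    rw [h, act_one]
    have h3 : α ^ 3 ^ k = 1 := by
      rw [← orderOf_dvd_iff_pow_eq_one, ho]
      exact pow_dvd_pow 3 (by omega)
    rw [h3, one_pow, one_smul]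
  · rw [← hk]
    exact cc_pow e hα ho

variable (hF : Fintype.card F = q ^ 2)

include ho ha hj hF in
/-- the order in `PSU` -/
theorem orderOf_mk_cc : orderOf (QuotientGroup.mk (cc e hα) : PSU n F q) = 3 ^ (a + j) := by
  have h1 : orderOf (QuotientGroup.mk (cc e hα) : PSU n F q) ∣ 3 ^ (a + j) := by
    rw [← orderOf_cc e hα ho ha hj]
    exact orderOf_map_dvd (QuotientGroup.mk' (Subgroup.center (SU n F q))) _
  set i := orderOf (QuotientGroup.mk (cc e hα) : PSU n F q) with hi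
  have hi0 : 0 < i := orderOf_pos _
  rcases Nat.lt_or_ge i (3 ^ (a + j)) with h | h
  · exfalso
    have h2 : cc e hα ^ i ∈ Subgroup.center (SU n F q) := by
      rw [← QuotientGroup.eq_one_iff, QuotientGroup.mk_pow, hi, pow_orderOf_eq_one]
    obtain ⟨w, hw, hw0⟩ := exists_mem_SB (F := F) e
    obtain ⟨u, -, HB, hcu⟩ := exists_u e (odd_three_pow j) hα hF
    obtain ⟨μ, hμ⟩ := exists_trace_eq hF (c := -hermForm n F q w w) (by
      rw [neg_pow_q hF, ← herm_swap hF])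
    have hS : IsSiegel q u w μ := ⟨HB.iso, HB.orth w hw, by rw [hμ]; ring⟩
    apply semi e hα ho ha hj hw hw0 hi0 h
    rw [cc, ← inv_mul_conj_mem (hF := hF) HB (mul_pow_q_eq_one hα) hcu (fun w hw => act_mem_SB e _ hα hw) hw hS i]
    have h3 := Subgroup.mem_center_iff.1 h2 (siegel hF u w μ hS)
    rw [cc] at h3
    rw [← h3, mul_inv_cancel_right, inv_mul_cancel]
    exact Subgroup.one_mem _
  · exact Nat.dvd_antisymm h1 (by
      have := Nat.le_of_dvd (by positivity) h1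
      rw [show i = 3 ^ (a + j) by omega])

include ho ha hj in
/-- the reduction to a norm statement in `SU` -/
theorem hit_of_norm (hF : Fintype.card F = q ^ 2) (hn3 : 3 ≤ n) (hsim : IsSimpleGroup (PSU n F q)) (h3 : 3 ∣ q + 1) (h3n : ¬ 3 ∣ n)
    (hjn : n < 3 ^ (j + 1)) (haq : ¬ 3 ^ (a + 1) ∣ q + 1)
    (hT : ∃ x : PSU n F q, ¬ 3 ∣ orderOf x ∧ ∀ y : PSU n F q, orderOf y ≠ 3 * orderOf x)
    (hN : ∀ (W : Type u) [AddCommGroup W] [Finite W] [Nontrivial W], (∀ w : W, 3 • w = 0) →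
      ∀ φ : SU n F q →* AddMonoid.End W, (∀ x, φ x = 1 → x ∈ Subgroup.center (SU n F q)) →
        ∃ w : W, ∑ i ∈ range (orderOf (cc e hα)), φ (cc e hα ^ i) w ≠ 0) :
    Hit.{u, v} 3 (PSU n F q) := by
  refine H357.CV.hit_of_cases Nat.prime_three hT ?_
  intro W _ _ _ hW φ hinj
  obtain ⟨w, hw⟩ := hN W hW (φ.comp (QuotientGroup.mk' (Subgroup.center (SU n F q)))) (fun x hx => by
    rw [← QuotientGroup.eq_one_iff]
    exact hinj _ hx)
  refine ⟨QuotientGroup.mk (cc e hα), w, ?_, ?_⟩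
  · rw [orderOf_mk_cc e hα ho ha hj hF, ← orderOf_cc e hα ho ha hj]
    exact hw
  · intro y hy
    rw [orderOf_mk_cc e hα ho ha hj hF, ← pow_succ'] at hy
    exact no_order hF hn3 h3 h3n hjn haq y hy

end

/-- an element of `Z` which is not central -/
theorem exists_z {F : Type v} [Field F] [Fintype F] {n q : ℕ} (hF : Fintype.card F = q ^ 2) (hn3 : 3 ≤ n)
    {S : Submodule F (Fin n → F)} {w : Fin n → F} (H : HS q S w) : ∃ z ∈ ZG hF H, z ∉ Subgroup.center (SU n F q) := by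
  obtain ⟨μ, hμ0, hμ⟩ := exists_trace_zero_ne hF
  have h : IsSiegel q w 0 μ := isSiegel_zero.2 ⟨H.iso, hμ⟩
  refine ⟨siegel hF w 0 μ h, ⟨μ, h, rfl⟩, fun hc => ?_⟩
  obtain ⟨c, hcn, hcq, hc⟩ := (mem_center_SU_iff hF hn3 _).1 hc
  have h1 := act_siegel_self hF h
  rw [hc] at h1
  have h2 : act (suScalar q c hcn hcq : SU n F q) w = c • w := by
    rw [act_def, mat_def, coe_suScalar]
    funext i
    rw [Matrix.mulVec_diagonal]
    rfl
  rw [h2] at h1
  have h3 : c = 1 := by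
    have h4 : (c - 1) • w = 0 := by rw [sub_smul, one_smul, h1, sub_self]
    exact sub_eq_zero.1 ((smul_eq_zero.1 h4).resolve_right H.ne)
  subst h3
  have h5 : siegel hF w 0 μ h = 1 := by
    rw [hc]
    apply ext_act
    intro v
    rw [act_def, mat_def, coe_suScalar, act_one]
    funext i
    rw [Matrix.mulVec_diagonal, one_mul]
  exact hμ0 ((HS.siegel_eq_one_iff hF H S.zero_mem).1 h5).2

/-- `3 ^ (a + j) ≤ q ^ (3 ^ j)` -/
theorem le_of_ne {q j a : ℕ} (hq : 2 ≤ q) (h3 : 3 ^ a ∣ q + 1) (hj : 1 ≤ j) (h : ¬ (j = 1 ∧ q = 2)) :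
    3 ^ (a + j) ≤ q ^ 3 ^ j := by
  have h1 : 3 ^ a ≤ q + 1 := Nat.le_of_dvd (by omega) h3
  have h2 : 3 ^ j * (q + 1) ≤ q ^ 3 ^ j := by
    rcases Nat.lt_or_ge q 3 with hq2 | hq3
    · obtain rfl : q = 2 := by omega
      have hj2 : 2 ≤ j := by omega
      have h9 : 9 ≤ 3 ^ j := by
        calc 9 = 3 ^ 2 := rfl
          _ ≤ 3 ^ j := Nat.pow_le_pow_right (by norm_num) hj2
      have key : ∀ b : ℕ, 9 ≤ b → b * (2 + 1) ≤ 2 ^ b := by
        intro b hb
        induction b, hb using Nat.le_induction with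
        | base => norm_num
        | succ b hb ih => rw [pow_succ]; omega
      exact key _ h9
    · have h9 : 3 ≤ 3 ^ j := by
        calc 3 = 3 ^ 1 := rfl
          _ ≤ 3 ^ j := Nat.pow_le_pow_right (by norm_num) hj
      have key : ∀ b : ℕ, 3 ≤ b → b * (q + 1) ≤ q ^ b := by
        intro b hb
        induction b, hb using Nat.le_induction with
        | base =>
          have h5 : 9 ≤ q ^ 2 := by nlinarith
          calc 3 * (q + 1) ≤ 9 * q := by omega
            _ ≤ q ^ 2 * q := Nat.mul_le_mul_right q h5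
            _ = q ^ 3 := (pow_succ q 2).symm
        | succ b hb ih =>
          have h5 : b + 1 ≤ b * q := by nlinarith
          calc (b + 1) * (q + 1) ≤ (b * q) * (q + 1) := Nat.mul_le_mul_right _ h5
            _ = (b * (q + 1)) * q := by ring
            _ ≤ q ^ b * q := Nat.mul_le_mul_right q ih
            _ = q ^ (b + 1) := (pow_succ q b).symm
      exact key _ h9
  calc 3 ^ (a + j) = 3 ^ j * 3 ^ a := by rw [pow_add, mul_comm]
    _ ≤ 3 ^ j * (q + 1) := Nat.mul_le_mul_left _ h1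
    _ ≤ _ := h2

section

variable {F : Type v} [Field F] [Fintype F] {n q j ρ a : ℕ} (e : Ix (3 ^ j) ρ ≃ Fin n) {α : F}
  (hα : α ^ (q + 1) = 1) (ho : orderOf α = 3 ^ a) (ha : 1 ≤ a) (hj : 1 ≤ j)

theorem not_three_dvd_q {q : ℕ} (h3 : 3 ∣ q + 1) : ¬ 3 ∣ q := by omega

include ho ha hj in
/-- **the norm, main case** -/
theorem norm_main (hF : Fintype.card F = q ^ 2) (hn3 : 3 ≤ n) (h3 : 3 ∣ q + 1) (hle : 3 ^ (a + j) ≤ q ^ 3 ^ j)
    {W : Type u} [AddCommGroup W] [Finite W] (hW : ∀ w : W, 3 • w = 0)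
    (φ : SU n F q →* AddMonoid.End W) (hφ : ∀ x, φ x = 1 → x ∈ Subgroup.center (SU n F q)) :
    ∃ w : W, ∑ i ∈ range (orderOf (cc e hα)), φ (cc e hα ^ i) w ≠ 0 := by
  obtain ⟨w, -, HB, hcu⟩ := exists_u e (odd_three_pow j) hα hF
  obtain ⟨z₀, hz₀, hz₁⟩ := exists_z hF hn3 HB
  have hrq := not_three_dvd_q h3
  refine H377.CV.norm_ne_C Nat.prime_three hW φ (Z := ZG hF HB) (fun x hx y hy => comm_ZG HB (ZG_le HB hx) hy)
    (fun h => not_dvd_card hF HB Nat.prime_three hrq (h.trans (Subgroup.card_dvd_of_le (ZG_le HB)))) hz₀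
    (fun h => hz₁ (hφ _ h)) (fun z hz => ?_) ?_
  · have := conj_ZG HB (c := cc e hα) (mul_pow_q_eq_one hα) hcu hz 1
    rw [pow_one] at this
    rw [this]
    exact hz
  · intro K _ hK _
    refine ⟨1, a + j, q ^ 3 ^ j, EG hF HB, ?_⟩
    exact cdata HB (mul_pow_q_eq_one hα) hcu (fun w hw => act_mem_SB e _ hα hw) Nat.prime_three hrq
      (orderOf_cc e hα ho ha hj) (by rw [card_SB, hF, ← pow_mul, ← pow_mul, mul_comm]) hle
      (fun w hw hw0 i hi him => semi e hα ho ha hj hw hw0 hi him) hz₀ hK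

end

end Cfsg.Agent.H813.CV
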